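import Mathlib
import Cfsg.Agent.Lib.Helper21.PolySeq

set_option autoImplicit false

/-! PIECE HP-BASE (S4144/S5238). Small complements to `Lib/Helper21/PolySeq`.
PROOFS.
* `isPoly_of_iterate`: induction on `r` generalizing `k g`; for `r+1` use `j = 0` for the membership
  and apply the IH to `D g` at level `k+1` with `D^[j] (D g) = D^[j+1] g` (`Function.iterate_succ_apply`)
  and `k + 1 + j = k + (j+1)`.
* `isPoly_iterate`: induction on `j` generalizing `k g`; `IsPoly F (r + (j+1)) k g` unfolds to
  `(..) ∧ IsPoly F (r + j) (k+1) (D g)`; `D^[j+1] g = D^[j] (D g)`.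
* `iterate_D_choose`: induction on `k`; `D (fun n => x ^ n.choose (i+1)) = fun n => x ^ n.choose i`
  by `Nat.choose_succ_succ`, `pow_add`, `mul_inv_cancel_right` (see `isPoly_choose` in PolySeq).
* `iterate_D_choose_gt`: `D^[i]` gives `fun n => x ^ n.choose 0 = fun _ => x`, one more `D` gives `1`, and
  `D 1 = 1` (`D_one`) for the remaining iterations. -/

namespace Cfsg.Agent.Helper10.HP

open scoped commutatorElement
open Cfsg.Agent.Helper21.PolySeq

variable {G : Type*} [Group G] {F : ℕ → Subgroup G}

theorem isPoly_of_iterate : ∀ (r k : ℕ) (g : ℕ → G),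
    (∀ j, j ≤ r → ∀ n, (D^[j] g) n ∈ F (k + j)) → IsPoly F r k g := by
  intro r
  induction r with
  | zero =>
    intro k g h n
    simpa using h 0 le_rfl n
  | succ r ih =>
    intro k g h
    refine ⟨fun n => by simpa using h 0 (Nat.zero_le _) n, ?_⟩
    apply ih
    intro j hj n
    have := h (j + 1) (by omega) n
    rw [Function.iterate_succ_apply] at this
    rwa [show k + 1 + j = k + (j + 1) by omega]

theorem isPoly_iterate : ∀ (j r k : ℕ) (g : ℕ → G),
    IsPoly F (r + j) k g → IsPoly F r (k + j) (D^[j] g) := by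
  intro j
  induction j with
  | zero =>
    intro r k g h
    simpa using h
  | succ j ih =>
    intro r k g h
    rw [Function.iterate_succ_apply]
    have h2 : IsPoly F (r + j) (k + 1) (D g) := by
      have h' : IsPoly F (r + j + 1) k g := h
      exact h'.2
    have := ih r (k + 1) (D g) h2
    rwa [show k + 1 + j = k + (j + 1) by omega] at this

theorem iterate_D_one (k : ℕ) : D^[k] (1 : ℕ → G) = 1 := by
  induction k with
  | zero => rfl
  | succ k ih => rw [Function.iterate_succ_apply, D_one, ih]

theorem hpbase_D_choose_succ (x : G) (i : ℕ) :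
    D (fun n => x ^ (n.choose (i + 1))) = fun n => x ^ (n.choose i) := by
  funext n
  simp only [D]
  rw [Nat.choose_succ_succ, pow_add, mul_inv_cancel_right]

theorem iterate_D_choose (x : G) : ∀ (k i : ℕ), k ≤ i →
    D^[k] (fun n => x ^ (n.choose i)) = fun n => x ^ (n.choose (i - k)) := by
  intro k
  induction k with
  | zero =>
    intro i _
    rfl
  | succ k ih =>
    intro i hi
    obtain ⟨i', rfl⟩ : ∃ i', i = i' + 1 := ⟨i - 1, by omega⟩
    rw [Function.iterate_succ_apply, hpbase_D_choose_succ, ih i' (by omega)]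
    rw [show i' + 1 - (k + 1) = i' - k by omega]

theorem iterate_D_choose_gt (x : G) (k i : ℕ) (h : i < k) :
    D^[k] (fun n => x ^ (n.choose i)) = 1 := by
  obtain ⟨m, rfl⟩ : ∃ m, k = m + (i + 1) := ⟨k - (i + 1), by omega⟩
  rw [Function.iterate_add_apply]
  have h1 : D^[i + 1] (fun n => x ^ (n.choose i)) = 1 := by
    rw [Function.iterate_succ_apply', iterate_D_choose x i i le_rfl]
    funext n
    simp [D]
  rw [h1, iterate_D_one]

end Cfsg.Agent.Helper10.HP
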