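import Mathlib

/-!
# HP farm (helper14), PIECE HP-CENT  [M]  (Mathlib only; done by helper15)

List products of central elements (`hp_closure_prod`: `Subgroup.closure_induction`; generator `f i₀`: exponent = indicator of `i₀`,
needs `l.Nodup` (use `classical`); product: exponents add, central elements commute; inverse: negate).  Aux names prefixed `hpcent_`; keep names/statements/namespace; no sorry; scan; land; mark done.
-/

set_option autoImplicit false

namespace Cfsg.Agent.Helper21.MC

variable {G : Type*} [Group G]

/-- a product of `1`s -/
theorem hpcent_prod_eq_one {ι : Type*} (l : List ι) (f : ι → G) (h : ∀ i ∈ l, f i = 1) :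
    (l.map f).prod = 1 := by
  apply List.prod_eq_one
  intro x hx
  obtain ⟨i, hi, rfl⟩ := List.mem_map.1 hx
  exact h i hi

/-- a product over a duplicate-free list in which only one entry is nontrivial -/
theorem hpcent_prod_single {ι : Type*} (l : List ι) (hl : l.Nodup) (f : ι → G) (a : ι) (ha : a ∈ l)
    (h1 : ∀ i ∈ l, i ≠ a → f i = 1) : (l.map f).prod = f a := by
  induction l with
  | nil => simp at ha
  | cons c l ih =>
    rw [List.nodup_cons] at hl
    rw [List.map_cons, List.prod_cons]
    by_cases hca : c = a
    · subst hca
      rw [hpcent_prod_eq_one l f, mul_one]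
      intro i hi
      exact h1 i (List.mem_cons_of_mem _ hi) (fun h => hl.1 (h ▸ hi))
    · have ha' : a ∈ l := by
        rcases List.mem_cons.1 ha with h | h
        · exact absurd h.symm hca
        · exact h
      rw [h1 c List.mem_cons_self hca, one_mul]
      exact ih hl.2 ha' fun i hi => h1 i (List.mem_cons_of_mem _ hi)

/-- the product of two families, the second one central -/
theorem hpcent_prod_mul {ι : Type*} (l : List ι) (u v : ι → G) (hv : ∀ i ∈ l, v i ∈ Subgroup.center G) :
    (l.map fun i => u i * v i).prod = (l.map u).prod * (l.map v).prod := by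
  induction l with
  | nil => simp
  | cons c l ih =>
    rw [List.map_cons, List.prod_cons, List.map_cons, List.prod_cons, List.map_cons, List.prod_cons,
      ih fun i hi => hv i (List.mem_cons_of_mem _ hi)]
    have hc := Subgroup.mem_center_iff.1 (hv c List.mem_cons_self) (l.map u).prod
    calc u c * v c * ((l.map u).prod * (l.map v).prod)
        = u c * (v c * (l.map u).prod) * (l.map v).prod := by simp only [mul_assoc]
      _ = u c * ((l.map u).prod * v c) * (l.map v).prod := by rw [hc]
      _ = u c * (l.map u).prod * (v c * (l.map v).prod) := by simp only [mul_assoc]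

/-- the product of the inverses of a central family -/
theorem hpcent_prod_inv {ι : Type*} (l : List ι) (u : ι → G) (hu : ∀ i ∈ l, u i ∈ Subgroup.center G) :
    (l.map fun i => (u i)⁻¹).prod = ((l.map u).prod)⁻¹ := by
  induction l with
  | nil => simp
  | cons c l ih =>
    rw [List.map_cons, List.prod_cons, List.map_cons, List.prod_cons,
      ih fun i hi => hu i (List.mem_cons_of_mem _ hi), mul_inv_rev]
    exact (Subgroup.mem_center_iff.1 (Subgroup.inv_mem _ (hu c List.mem_cons_self)) _).symm

/-- an element of the subgroup generated by finitely many central elements is a product of powers -/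
theorem hp_closure_prod {ι : Type*} (l : List ι) (hl : l.Nodup) (f : ι → G)
    (hc : ∀ i ∈ l, f i ∈ Subgroup.center G) (g : G)
    (hg : g ∈ Subgroup.closure {a | ∃ i ∈ l, a = f i}) :
    ∃ e : ι → ℤ, g = (l.map fun i => f i ^ e i).prod := by
  classical
  induction hg using Subgroup.closure_induction with
  | mem x hx =>
    obtain ⟨i₀, hi₀, rfl⟩ := hx
    refine ⟨fun i => if i = i₀ then 1 else 0, ?_⟩
    rw [hpcent_prod_single l hl (fun i => f i ^ (if i = i₀ then (1 : ℤ) else 0)) i₀ hi₀]
    · simp
    · intro i _ hi
      simp [hi]
  | one =>
    refine ⟨fun _ => 0, ?_⟩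
    rw [hpcent_prod_eq_one]
    intro i _
    simp
  | mul x y _ _ hx hy =>
    obtain ⟨e₁, rfl⟩ := hx
    obtain ⟨e₂, rfl⟩ := hy
    refine ⟨fun i => e₁ i + e₂ i, ?_⟩
    rw [← hpcent_prod_mul l (fun i => f i ^ e₁ i) (fun i => f i ^ e₂ i)
      fun i hi => Subgroup.zpow_mem _ (hc i hi) _]
    simp only [zpow_add]
  | inv x _ hx =>
    obtain ⟨e, rfl⟩ := hx
    refine ⟨fun i => -e i, ?_⟩
    rw [← hpcent_prod_inv l (fun i => f i ^ e i) fun i hi => Subgroup.zpow_mem _ (hc i hi) _]
    simp only [zpow_neg]

/-- splitting a product of central elements along a predicate -/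
theorem hp_prod_filter {ι : Type*} (l : List ι) (f : ι → G) (hc : ∀ i ∈ l, f i ∈ Subgroup.center G)
    (P : ι → Bool) :
    (l.map f).prod = ((l.filter P).map f).prod * ((l.filter fun i => !P i).map f).prod := by
  induction l with
  | nil => simp
  | cons c l ih =>
    have ih' := ih fun i hi => hc i (List.mem_cons_of_mem _ hi)
    rw [List.map_cons, List.prod_cons, ih']
    cases hP : P c
    · rw [List.filter_cons_of_neg (by simp [hP]), List.filter_cons_of_pos (by simp [hP]),
        List.map_cons, List.prod_cons]
      have h := Subgroup.mem_center_iff.1 (hc c List.mem_cons_self) ((l.filter P).map f).prod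
      rw [← mul_assoc, ← h, mul_assoc]
    · rw [List.filter_cons_of_pos (by simp [hP]), List.filter_cons_of_neg (by simp [hP]),
        List.map_cons, List.prod_cons, mul_assoc]

/-- a product over a duplicate-free list in which only two entries are nontrivial -/
theorem hp_prod_two {ι : Type*} (l : List ι) (hl : l.Nodup) (f : ι → G) (a b : ι) (ha : a ∈ l) (hb : b ∈ l)
    (hab : a ≠ b) (hcomm : f a * f b = f b * f a) (h1 : ∀ i ∈ l, i ≠ a → i ≠ b → f i = 1) :
    (l.map f).prod = f a * f b := by
  induction l with
  | nil => simp at ha
  | cons c l ih =>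
    rw [List.nodup_cons] at hl
    rw [List.map_cons, List.prod_cons]
    by_cases hca : c = a
    · subst hca
      have hb' : b ∈ l := by
        rcases List.mem_cons.1 hb with h | h
        · exact absurd h.symm hab
        · exact h
      rw [hpcent_prod_single l hl.2 f b hb']
      intro i hi hib
      exact h1 i (List.mem_cons_of_mem _ hi) (fun h => hl.1 (h ▸ hi)) hib
    · by_cases hcb : c = b
      · subst hcb
        have ha' : a ∈ l := by
          rcases List.mem_cons.1 ha with h | h
          · exact absurd h hab
          · exact h
        rw [hpcent_prod_single l hl.2 f a ha', hcomm]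
        intro i hi hia
        exact h1 i (List.mem_cons_of_mem _ hi) hia (fun h => hl.1 (h ▸ hi))
      · have ha' : a ∈ l := by
          rcases List.mem_cons.1 ha with h | h
          · exact absurd h.symm hca
          · exact h
        have hb' : b ∈ l := by
          rcases List.mem_cons.1 hb with h | h
          · exact absurd h.symm hcb
          · exact h
        rw [h1 c List.mem_cons_self hca hcb, one_mul]
        exact ih hl.2 ha' hb' fun i hi => h1 i (List.mem_cons_of_mem _ hi)

/-- a list product of central elements, computed in the commutative group `Subgroup.center G` -/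
theorem hp_prod_center {ι : Type*} (l : List ι) (f : ι → G) (hc : ∀ i ∈ l, f i ∈ Subgroup.center G) :
    ∃ z : ι → Subgroup.center G, (∀ i ∈ l, ((z i : Subgroup.center G) : G) = f i) ∧
      (((l.map z).prod : Subgroup.center G) : G) = (l.map f).prod := by
  classical
  let z : ι → Subgroup.center G := fun i => if h : f i ∈ Subgroup.center G then ⟨f i, h⟩ else 1
  have hz : ∀ i ∈ l, ((z i : Subgroup.center G) : G) = f i := by
    intro i hi
    simp only [z, dif_pos (hc i hi)]
  refine ⟨z, hz, ?_⟩
  have h := map_list_prod (Subgroup.center G).subtype (l.map z)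
  rw [Subgroup.coe_subtype, List.map_map] at h
  rw [h]
  congr 1
  apply List.map_congr_left
  intro i hi
  exact hz i hi

end Cfsg.Agent.Helper21.MC
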