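import Mathlib
import Cfsg.Agent.Lib.MC.MCDefs
import Cfsg.Agent.Lib.MC.MCK
import Cfsg.Agent.Lib.MC.MCCong
import Cfsg.Agent.Lib.MC.MCBil

/-!
# HP farm (helper14): exact top term of Hall--Petrescu / the `(p-1)`-Engel identity for exponent `p`
(the ANCHOR of S4144 / S5238).  PIECE HP-DEFS: definitions and basic lemmas  (proved by helper7)

`lnc [a,b,c,...] = ⁅⁅⁅a,b⁆,c⁆,...⁆` (left-normed commutator), `lncw x y w` its value on the word `w : List Bool`
(`false ↦ x`, `true ↦ y`), `allWords n` = all words of length `n`.
Design (msg of helper14 on the board): `Q = FreeGroup (Fin 2) / N` is the universal group with `K_{p+1} = 1` and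
`exp K_2 ∣ p`; `φ(x,y) = (y⁻¹)^p (x⁻¹)^p (xy)^p ∈ K_p(Q) = ⟨lncw x y w : |w| = p⟩`, so
`φ = ∏_w (lncw x y w)^(e w)` with UNIVERSAL exponents `e w`; weight-`p` commutators are multilinear; a model group
`C_p ≀ C_p` shows `p ∤ e(yx…x) - e(xyx…x)`.
Keep names/statements/namespace; aux names prefixed `hpdefs_`; no sorry; scan; land; mark done.
-/

set_option autoImplicit false

namespace Cfsg.Agent.Helper21.MC

open scoped commutatorElement

/-- left-normed commutator of a list -/
def lnc {G : Type*} [Group G] : List G → G
  | [] => 1
  | a :: l => l.foldl (fun c z => ⁅c, z⁆) a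

/-- the letter: `false ↦ x`, `true ↦ y` -/
def letter {G : Type*} (x y : G) (b : Bool) : G := if b then y else x

/-- the value of the word `w` at `(x, y)` -/
def lncw {G : Type*} [Group G] (x y : G) (w : List Bool) : G := lnc (w.map (letter x y))

/-- all words of length `n` -/
def allWords : ℕ → List (List Bool)
  | 0 => [[]]
  | n + 1 => (allWords n).flatMap fun w => [false :: w, true :: w]

/-- the word `y x x ... x` of length `p` -/
def wordY (p : ℕ) : List Bool := true :: List.replicate (p - 1) false

/-- the word `x y x ... x` of length `p` -/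
def wordXY (p : ℕ) : List Bool := false :: true :: List.replicate (p - 2) false

variable {G : Type*} [Group G]

theorem lnc_singleton (a : G) : lnc [a] = a := by
  rfl

theorem lnc_append_singleton (l : List G) (hl : l ≠ []) (z : G) : lnc (l ++ [z]) = ⁅lnc l, z⁆ := by
  cases l with
  | nil => exact absurd rfl hl
  | cons a t =>
    show (t ++ [z]).foldl (fun c z => ⁅c, z⁆) a = ⁅t.foldl (fun c z => ⁅c, z⁆) a, z⁆
    rw [List.foldl_append]
    rfl

theorem lncw_append_singleton (x y : G) (w : List Bool) (hw : w ≠ []) (b : Bool) :
    lncw x y (w ++ [b]) = ⁅lncw x y w, letter x y b⁆ := by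
  unfold lncw
  rw [List.map_append, List.map_singleton]
  apply lnc_append_singleton
  intro h
  exact hw (List.map_eq_nil_iff.1 h)

theorem lnc_cons_replicate (a x : G) (m : ℕ) : lnc (a :: List.replicate m x) = iterComm a x m := by
  induction m with
  | zero => rfl
  | succ m ih =>
    have h1 : a :: List.replicate (m + 1) x = (a :: List.replicate m x) ++ [x] := by
      rw [List.replicate_succ', List.cons_append]
    rw [h1, lnc_append_singleton _ (List.cons_ne_nil _ _), ih]
    rfl

theorem hpdefs_foldl_map {H : Type*} [Group H] (f : G →* H) (t : List G) (a : G) :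
    f (t.foldl (fun c z => ⁅c, z⁆) a) = (t.map f).foldl (fun c z => ⁅c, z⁆) (f a) := by
  induction t generalizing a with
  | nil => rfl
  | cons b t ih =>
    rw [List.foldl_cons, List.map_cons, List.foldl_cons, ih, map_commutatorElement]

theorem lnc_map {H : Type*} [Group H] (f : G →* H) (l : List G) : f (lnc l) = lnc (l.map f) := by
  cases l with
  | nil => exact map_one f
  | cons a t => exact hpdefs_foldl_map f t a

theorem hpdefs_letter_map {H : Type*} [Group H] (f : G →* H) (x y : G) (b : Bool) :
    f (letter x y b) = letter (f x) (f y) b := by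
  cases b <;> rfl

theorem lncw_map {H : Type*} [Group H] (f : G →* H) (x y : G) (w : List Bool) :
    f (lncw x y w) = lncw (f x) (f y) w := by
  unfold lncw
  rw [lnc_map, List.map_map]
  congr 1
  apply List.map_congr_left
  intro b _
  exact hpdefs_letter_map f x y b

theorem mem_allWords (n : ℕ) (w : List Bool) : w ∈ allWords n ↔ w.length = n := by
  induction n generalizing w with
  | zero =>
    show w ∈ [[]] ↔ w.length = 0
    rw [List.mem_singleton, List.length_eq_zero_iff]
  | succ n ih =>
    show w ∈ (allWords n).flatMap (fun w => [false :: w, true :: w]) ↔ w.length = n + 1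
    rw [List.mem_flatMap]
    constructor
    · rintro ⟨v, hv, hw⟩
      have hv' := (ih v).1 hv
      rcases List.mem_pair.1 hw with rfl | rfl
      · rw [List.length_cons, hv']
      · rw [List.length_cons, hv']
    · intro hw
      cases w with
      | nil => simp at hw
      | cons b v =>
        rw [List.length_cons] at hw
        refine ⟨v, (ih v).2 (by omega), ?_⟩
        cases b
        · exact List.mem_pair.2 (Or.inl rfl)
        · exact List.mem_pair.2 (Or.inr rfl)

theorem allWords_nodup (n : ℕ) : (allWords n).Nodup := by
  induction n with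
  | zero => exact List.nodup_singleton _
  | succ n ih =>
    show ((allWords n).flatMap (fun w => [false :: w, true :: w])).Nodup
    rw [List.nodup_flatMap]
    refine ⟨?_, ?_⟩
    · intro v _
      rw [List.nodup_cons]
      refine ⟨?_, List.nodup_singleton _⟩
      intro h
      rw [List.mem_singleton] at h
      exact absurd (List.cons.inj h).1 (by decide)
    · refine ih.imp ?_
      intro v v' hvv'
      show List.Disjoint [false :: v, true :: v] [false :: v', true :: v']
      intro u hu hu'
      rcases List.mem_pair.1 hu with rfl | rfl <;> rcases List.mem_pair.1 hu' with h | h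
      · exact hvv' (List.cons.inj h).2
      · exact absurd (List.cons.inj h).1 (by decide)
      · exact absurd (List.cons.inj h).1 (by decide)
      · exact hvv' (List.cons.inj h).2

theorem wordY_length (p : ℕ) (hp : 1 ≤ p) : (wordY p).length = p := by
  unfold wordY
  rw [List.length_cons, List.length_replicate]
  omega

theorem wordXY_length (p : ℕ) (hp : 2 ≤ p) : (wordXY p).length = p := by
  unfold wordXY
  rw [List.length_cons, List.length_cons, List.length_replicate]
  omega

theorem wordY_count (p : ℕ) : (wordY p).count true = 1 := by
  unfold wordY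
  rw [List.count_cons_self, List.count_replicate]
  simp

theorem wordXY_count (p : ℕ) : (wordXY p).count true = 1 := by
  unfold wordXY
  rw [List.count_cons_of_ne (by decide), List.count_cons_self, List.count_replicate]
  simp

theorem wordY_ne_wordXY (p : ℕ) : wordY p ≠ wordXY p := by
  intro h
  unfold wordY wordXY at h
  exact absurd (List.cons.inj h).1 (by decide)

/-- the value of a word of length `n ≥ 1` lies in `K G n` -/
theorem lncw_mem (x y : G) (w : List Bool) (hw : 1 ≤ w.length) : lncw x y w ∈ K G w.length := by
  induction w using List.reverseRecOn with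
  | nil => simp at hw
  | append_singleton v b ih =>
    by_cases hv : v = []
    · subst hv
      rw [List.nil_append, List.length_singleton, K_one]
      exact Subgroup.mem_top _
    · have hv1 : 1 ≤ v.length := by
        rcases Nat.eq_zero_or_pos v.length with h0 | h0
        · exact absurd (List.length_eq_zero_iff.1 h0) hv
        · exact h0
      rw [lncw_append_singleton x y v hv b, List.length_append, List.length_singleton]
      exact comm_mem_succ hv1 (ih hv1) _

theorem hpdefs_foldl_one (t : List G) : t.foldl (fun c z => ⁅c, z⁆) (1 : G) = 1 := by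
  induction t with
  | nil => rfl
  | cons b t ih => rw [List.foldl_cons, commutatorElement_one_left, ih]

/-- a word starting with two equal letters has trivial value -/
theorem lncw_eq_one_of_head (x y : G) (b : Bool) (t : List Bool) : lncw x y (b :: b :: t) = 1 := by
  unfold lncw
  rw [List.map_cons, List.map_cons]
  show (letter x y b :: t.map (letter x y)).foldl (fun c z => ⁅c, z⁆) (letter x y b) = 1
  rw [List.foldl_cons, commutatorElement_self, hpdefs_foldl_one]

/-- `K G n` is central when `K G (n+1) = ⊥` -/
theorem K_le_center_of_succ_eq_bot (n : ℕ) (hn : 1 ≤ n) (h : K G (n + 1) = ⊥) :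
    K G n ≤ Subgroup.center G := by
  intro a ha
  rw [Subgroup.mem_center_iff]
  intro g
  have h1 : ⁅a, g⁆ ∈ K G (n + 1) := comm_mem_succ hn ha g
  rw [h, Subgroup.mem_bot, commutatorElement_eq_one_iff_mul_comm] at h1
  exact h1.symm

end Cfsg.Agent.Helper21.MC
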