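import Mathlib
import Cfsg.Agent.Lib.HP.HPDefs

/-!
# HP farm (helper14), PIECE HP-DEG  [M]  (proved by helper14)

Words of `y`-degree `≤ 1` and `= length`.  Recipe: `hp_wordY`: `lnc_cons_replicate`.  `hp_iter_inv_cong`: induction on `m`
(`comm_cong_left` with degrees `(j+m, 1)`, then `comm_inv_left_cong`; `iterComm_mem`).  `hp_wordXY`: `⁅x, y⁆ = ⁅y, x⁆⁻¹`
(`comm_swap`), `lnc (⁅x,y⁆ :: replicate (p-2) x) = iterComm ⁅y,x⁆⁻¹ x (p-2)`, `hp_iter_inv_cong` with `j = 2`, `m = p-2`
modulo `K G (p+1) = ⊥`, and `iterComm ⁅y,x⁆ x (p-2) = iterComm y x (p-1)` (a small lemma `iterComm (iterComm a s 1) s m = iterComm a s (m+1)`).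
`hp_deg_le_one`: such a word starts with `false :: false` (case analysis on the position of the only `true`), then `lncw_eq_one_of_head`.
`hp_deg_full`: all letters are `true`, the word starts with `true :: true`.
Aux names prefixed `hpdeg_`; keep names/statements/namespace; no sorry; scan; land; mark done.
-/

set_option autoImplicit false

namespace Cfsg.Agent.Helper21.MC

open scoped commutatorElement

variable {G : Type*} [Group G]

theorem hpdeg_iter_shift (a s : G) (m : ℕ) : iterComm ⁅a, s⁆ s m = iterComm a s (m + 1) := by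
  induction m with
  | zero => rfl
  | succ m ih =>
    show ⁅iterComm ⁅a, s⁆ s m, s⁆ = ⁅iterComm a s (m + 1), s⁆
    rw [ih]

theorem hp_iter_inv_cong (c x : G) (j : ℕ) (hj : 1 ≤ j) (hc : c ∈ K G j) (m : ℕ) :
    Cong G (j + m) (iterComm c⁻¹ x m) (iterComm c x m)⁻¹ := by
  induction m with
  | zero => exact Cong.refl _ _
  | succ m ih =>
    have hx1 : x ∈ K G 1 := by rw [K_one]; exact Subgroup.mem_top x
    have h1 : iterComm c⁻¹ x m ∈ K G (j + m) := iterComm_mem hj (inv_mem hc) x m
    have h2 : iterComm c x m ∈ K G (j + m) := iterComm_mem hj hc x m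
    have hA := comm_cong_left (Y := G) (i := j + m) (j := 1) (by omega) le_rfl h1 ih hx1
    have hB := comm_inv_left_cong (Y := G) (i := j + m) (j := 1) (by omega) le_rfl h2 hx1
    exact hA.trans hB

theorem hp_wordY (x y : G) (p : ℕ) (hp : 1 ≤ p) : lncw x y (wordY p) = iterComm y x (p - 1) := by
  have : (wordY p).map (letter x y) = y :: List.replicate (p - 1) x := by
    simp [wordY, letter, List.map_replicate]
  rw [lncw, this, lnc_cons_replicate]

theorem hp_wordXY (x y : G) (p : ℕ) (hp : 2 ≤ p) (h : K G (p + 1) = ⊥) :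
    lncw x y (wordXY p) = (iterComm y x (p - 1))⁻¹ := by
  have h0 : (wordXY p).map (letter x y) = x :: y :: List.replicate (p - 2) x := by
    simp [wordXY, letter, List.map_replicate]
  have h1 : lnc (x :: y :: List.replicate (p - 2) x) = lnc (⁅x, y⁆ :: List.replicate (p - 2) x) := rfl
  rw [lncw, h0, h1, lnc_cons_replicate, comm_swap y x]
  have hy1 : y ∈ K G 1 := by rw [K_one]; exact Subgroup.mem_top y
  have hc : ⁅y, x⁆ ∈ K G 2 := comm_mem_succ le_rfl hy1 x
  have hcong := hp_iter_inv_cong ⁅y, x⁆ x 2 (by omega) hc (p - 2)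
  unfold Cong at hcong
  have e : 2 + (p - 2) + 1 = p + 1 := by omega
  rw [e, h, Subgroup.mem_bot] at hcong
  have h2 : iterComm ⁅y, x⁆⁻¹ x (p - 2) = (iterComm ⁅y, x⁆ x (p - 2))⁻¹ := by
    have := inv_mul_eq_one.1 hcong
    exact this
  rw [h2, hpdeg_iter_shift]
  have e2 : p - 2 + 1 = p - 1 := by omega
  rw [e2]

theorem hpdeg_all_false (t : List Bool) (ht : t.count true = 0) : t = List.replicate t.length false := by
  rw [List.eq_replicate_iff]
  refine ⟨rfl, fun b hb => ?_⟩
  cases b with
  | false => rfl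
  | true => exact absurd hb (List.count_eq_zero.1 ht)

theorem hp_deg_le_one (x y : G) (p : ℕ) (hp : 2 ≤ p) (w : List Bool) (hw : w.length = p)
    (hd : w.count true ≤ 1) (h0 : w ≠ wordY p) (h1 : w ≠ wordXY p) : lncw x y w = 1 := by
  rcases w with _ | ⟨a, _ | ⟨b, t⟩⟩
  · simp at hw; omega
  · simp at hw; omega
  · have hlen : t.length = p - 2 := by simp at hw; omega
    cases a <;> cases b
    · exact lncw_eq_one_of_head x y false t
    · exfalso
      have hct : t.count true = 0 := by simp at hd; exact hd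
      apply h1
      rw [hpdeg_all_false t hct, hlen, wordXY]
    · exfalso
      have hct : t.count true = 0 := by simp at hd; exact hd
      apply h0
      rw [hpdeg_all_false t hct, hlen, wordY]
      have : p - 1 = (p - 2) + 1 := by omega
      rw [this, List.replicate_succ]
    · exfalso
      simp at hd

theorem hp_deg_full (x y : G) (w : List Bool) (hw : 2 ≤ w.length) (hd : w.count true = w.length) :
    lncw x y w = 1 := by
  have hall : ∀ b ∈ w, true = b := List.count_eq_length.1 hd
  rcases w with _ | ⟨a, _ | ⟨b, t⟩⟩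
  · simp at hw
  · simp at hw
  · have ha : true = a := hall a (by simp)
    have hb : true = b := hall b (by simp)
    subst ha; subst hb
    exact lncw_eq_one_of_head x y true t

end Cfsg.Agent.Helper21.MC
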