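import Mathlib
import Cfsg.Agent.Lib.HP.HPDefs
import Cfsg.Agent.Lib.Helper16.NilClassBound

/-!
# HP farm (helper14), PIECE HP-MODEL  [H]

A model group: `C_p ≀ C_p`, realised as Mathlib's `RegularWreathProduct C C` with `C = Multiplicative (ZMod p)`;
`x := inl σ = ⟨1, σ⟩`, `y := ⟨δ₁, 1⟩` (`σ = ofAdd 1`, `δ₁ = Pi.mulSingle 1 σ`), `A := rightHom.ker` (normal, abelian, exponent `p`).
* `|M| = p ^ (p + 1)`, so the class is at most `p` (`Helper16.nilpotencyClass_le_of_card_pow`) and `K M (p+1) = ⊥`.
* `K M 2 = commutator M ≤ A` (`Abelianization.commutator_subset_ker`), `A` has exponent `p`.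
* `(g ^ k).left i = ∏_{j<k} g.left ((g.right ^ j)⁻¹ * i)`; for `g = x * y` and `i = σ` only the term `j = 0` is nontrivial.
* words with two letters `y`: induction from the right.
-/

set_option autoImplicit false

namespace Cfsg.Agent.Helper21.MC

open scoped commutatorElement
open Multiplicative

section model

variable (p : ℕ) [Fact p.Prime]

theorem hpmodel_sigma_pow : (ofAdd (1 : ZMod p)) ^ p = 1 := by
  rw [← ofAdd_nsmul, nsmul_one, CharP.cast_eq_zero, ofAdd_zero]

theorem hpmodel_pow_p (d : Multiplicative (ZMod p)) : d ^ p = 1 := by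
  have h1 : d = ofAdd (toAdd d) := rfl
  rw [h1, ← ofAdd_nsmul, nsmul_eq_mul, CharP.cast_eq_zero, zero_mul, ofAdd_zero]

theorem hpmodel_sigma_pow_ne (j : ℕ) (h0 : 0 < j) (hj : j < p) : (ofAdd (1 : ZMod p)) ^ j ≠ 1 := by
  intro h
  rw [← ofAdd_nsmul, nsmul_one, ← ofAdd_zero] at h
  have h1 : ((j : ℕ) : ZMod p) = 0 := Multiplicative.ofAdd.injective h
  rw [ZMod.natCast_eq_zero_iff] at h1
  exact absurd (Nat.le_of_dvd h0 h1) (by omega)

theorem hpmodel_sigma_ne : (ofAdd (1 : ZMod p)) ≠ 1 := by
  have h := hpmodel_sigma_pow_ne p 1 Nat.one_pos (Fact.out : p.Prime).one_lt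
  rwa [pow_one] at h

end model

section wreath

variable {C : Type*} [CommGroup C]

theorem hpmodel_pow_right (g : RegularWreathProduct C C) (k : ℕ) : (g ^ k).right = g.right ^ k := by
  have h := map_pow (RegularWreathProduct.rightHom (D := C) (Q := C)) g k
  exact h

theorem hpmodel_pow_left (g : RegularWreathProduct C C) (k : ℕ) (i : C) :
    (g ^ k).left i = ∏ j ∈ Finset.range k, g.left ((g.right ^ j)⁻¹ * i) := by
  induction k with
  | zero => simp
  | succ k ih =>
    rw [pow_succ, RegularWreathProduct.mul_left, Pi.mul_apply, ih, Finset.prod_range_succ,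
      hpmodel_pow_right]

/-- elements of the base group commute -/
theorem hpmodel_base_comm (a b : RegularWreathProduct C C) (ha : a.right = 1) (hb : b.right = 1) :
    a * b = b * a := by
  ext i
  · rw [RegularWreathProduct.mul_left, RegularWreathProduct.mul_left, Pi.mul_apply, Pi.mul_apply,
      ha, hb, inv_one, one_mul, mul_comm]
  · rw [RegularWreathProduct.mul_right, RegularWreathProduct.mul_right, mul_comm]

theorem hpmodel_mem_ker (a : RegularWreathProduct C C) :
    a ∈ (RegularWreathProduct.rightHom (D := C) (Q := C)).ker ↔ a.right = 1 := by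
  rw [MonoidHom.mem_ker]
  rfl

end wreath

section words

variable {G : Type*} [Group G]

/-- words with at least one `y` have value in `A`, words with at least two `y` have trivial value, when `A` is a
normal abelian subgroup containing `y` -/
theorem hpmodel_words (A : Subgroup G) [hA : A.Normal] (hab : ∀ a ∈ A, ∀ b ∈ A, a * b = b * a)
    (x y : G) (hy : y ∈ A) (w : List Bool) :
    (1 ≤ w.count true → lncw x y w ∈ A) ∧ (2 ≤ w.count true → lncw x y w = 1) := by
  induction w using List.reverseRecOn with
  | nil =>
    constructor
    · intro h; simp at h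
    · intro h; simp at h
  | append_singleton w b ih =>
    by_cases hw : w = []
    · subst hw
      have h1 : lncw x y ([] ++ [b]) = letter x y b := by
        show lnc ([b].map (letter x y)) = letter x y b
        rw [List.map_singleton, lnc_singleton]
      rw [h1]
      cases b with
      | false =>
        constructor
        · intro h; simp at h
        · intro h; simp at h
      | true =>
        constructor
        · intro _
          show y ∈ A
          exact hy
        · intro h; simp at h
    · rw [lncw_append_singleton x y w hw b, List.count_append]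
      cases b with
      | false =>
        have hc : List.count true [false] = 0 := by decide
        rw [hc, add_zero]
        show (1 ≤ List.count true w → ⁅lncw x y w, x⁆ ∈ A) ∧
          (2 ≤ List.count true w → ⁅lncw x y w, x⁆ = 1)
        constructor
        · intro h
          have hv := ih.1 h
          have e : ⁅lncw x y w, x⁆ = lncw x y w * (x * (lncw x y w)⁻¹ * x⁻¹) := by
            rw [commutatorElement_def]; group
          rw [e]
          exact A.mul_mem hv (hA.conj_mem _ (A.inv_mem hv) x)
        · intro h
          rw [ih.2 h, commutatorElement_one_left]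
      | true =>
        have hc : List.count true [true] = 1 := by decide
        rw [hc]
        show (1 ≤ List.count true w + 1 → ⁅lncw x y w, y⁆ ∈ A) ∧
          (2 ≤ List.count true w + 1 → ⁅lncw x y w, y⁆ = 1)
        constructor
        · intro _
          have e : ⁅lncw x y w, y⁆ = (lncw x y w * y * (lncw x y w)⁻¹) * y⁻¹ := by
            rw [commutatorElement_def]
          rw [e]
          exact A.mul_mem (hA.conj_mem y hy _) (A.inv_mem hy)
        · intro h
          have hv := ih.1 (by omega)
          rw [commutatorElement_eq_one_iff_commute]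
          exact hab _ hv _ hy

end words

theorem hp_model (p : ℕ) [Fact p.Prime] : ∃ (M : Type) (_ : Group M) (x y : M),
    K M (p + 1) = ⊥ ∧ (∀ c ∈ K M 2, c ^ p = 1) ∧ x ^ p = 1 ∧ y ^ p = 1 ∧ (x * y) ^ p ≠ 1 ∧
      ∀ w : List Bool, 2 ≤ w.count true → lncw x y w = 1 := by
  have hp : p.Prime := Fact.out
  -- elements of the base group have order dividing `p`
  have hbase : ∀ a : RegularWreathProduct (Multiplicative (ZMod p)) (Multiplicative (ZMod p)),
      a.right = 1 → a ^ p = 1 := by
    intro a ha
    ext i
    · rw [hpmodel_pow_left, RegularWreathProduct.one_left, Pi.one_apply]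
      have h1 : ∀ j ∈ Finset.range p, a.left ((a.right ^ j)⁻¹ * i) = a.left i := by
        intro j _
        rw [ha, one_pow, inv_one, one_mul]
      rw [Finset.prod_congr rfl h1, Finset.prod_const, Finset.card_range, hpmodel_pow_p]
    · rw [hpmodel_pow_right, ha, one_pow, RegularWreathProduct.one_right]
  have hcard : Nat.card (RegularWreathProduct (Multiplicative (ZMod p)) (Multiplicative (ZMod p))) =
      p ^ (p + 1) := by
    rw [RegularWreathProduct.card]
    simp only [Nat.card_eq_fintype_card, Fintype.card_multiplicative, ZMod.card]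
    rw [pow_succ]
  refine ⟨RegularWreathProduct (Multiplicative (ZMod p)) (Multiplicative (ZMod p)), inferInstance,
    RegularWreathProduct.inl (ofAdd (1 : ZMod p)),
    ⟨Pi.mulSingle 1 (ofAdd (1 : ZMod p)), 1⟩, ?_, ?_, ?_, ?_, ?_, ?_⟩
  · -- class at most `p`
    have hP : IsPGroup p (RegularWreathProduct (Multiplicative (ZMod p)) (Multiplicative (ZMod p))) :=
      IsPGroup.of_card hcard
    haveI : Group.IsNilpotent
        (RegularWreathProduct (Multiplicative (ZMod p)) (Multiplicative (ZMod p))) := hP.isNilpotent
    have h1 := Cfsg.Agent.Helper16.nilpotencyClass_le_of_card_pow (p := p) (p + 1) _ hcard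
    have h2 : max (p + 1 - 1) 1 = p := by
      rw [Nat.add_sub_cancel]
      exact max_eq_left hp.one_lt.le
    rw [h2] at h1
    unfold K
    rw [Nat.add_sub_cancel]
    exact Subgroup.lowerCentralSeries_eq_bot_iff_nilpotencyClass_le.mpr h1
  · intro c hc
    apply hbase
    have h1 : K (RegularWreathProduct (Multiplicative (ZMod p)) (Multiplicative (ZMod p))) 2 =
        commutator _ := Subgroup.top_lowerCentralSeries_one
    rw [h1] at hc
    have h2 := Abelianization.commutator_subset_ker
      (RegularWreathProduct.rightHom (D := Multiplicative (ZMod p)) (Q := Multiplicative (ZMod p))) hc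
    exact (hpmodel_mem_ker c).mp h2
  · rw [← map_pow, hpmodel_sigma_pow, map_one]
  · exact hbase _ rfl
  · intro h
    have h1 := congrArg (fun g : RegularWreathProduct (Multiplicative (ZMod p)) (Multiplicative (ZMod p)) =>
      g.left (ofAdd (1 : ZMod p))) h
    simp only [RegularWreathProduct.one_left, Pi.one_apply] at h1
    rw [hpmodel_pow_left] at h1
    rw [Finset.prod_eq_single 0] at h1
    · simp at h1
    · intro j hj hj0
      rw [Finset.mem_range] at hj
      have hne := hpmodel_sigma_pow_ne p j (Nat.pos_of_ne_zero hj0) hj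
      simp only [RegularWreathProduct.mul_left, RegularWreathProduct.mul_right,
        RegularWreathProduct.left_inl, RegularWreathProduct.right_inl, Pi.mul_apply, Pi.one_apply,
        one_mul, mul_one]
      apply Pi.mulSingle_eq_of_ne
      intro h2
      apply hne
      have h3 : (ofAdd (1 : ZMod p))⁻¹ * (((ofAdd (1 : ZMod p)) ^ j)⁻¹ * ofAdd (1 : ZMod p)) =
          ((ofAdd (1 : ZMod p)) ^ j)⁻¹ := by
        rw [mul_comm (((ofAdd (1 : ZMod p)) ^ j)⁻¹), inv_mul_cancel_left]
      rw [h3] at h2
      exact inv_eq_one.mp h2
    · intro h0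
      exact absurd (Finset.mem_range.mpr hp.pos) h0
  · intro w hw
    have hnorm : ((RegularWreathProduct.rightHom (D := Multiplicative (ZMod p))
        (Q := Multiplicative (ZMod p))).ker).Normal := MonoidHom.normal_ker _
    refine (hpmodel_words (RegularWreathProduct.rightHom (D := Multiplicative (ZMod p))
      (Q := Multiplicative (ZMod p))).ker ?_ _ _ ?_ w).2 hw
    · intro a ha b hb
      exact hpmodel_base_comm a b ((hpmodel_mem_ker a).mp ha) ((hpmodel_mem_ker b).mp hb)
    · exact (hpmodel_mem_ker _).mpr rfl

end Cfsg.Agent.Helper21.MC
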