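import Mathlib
import Cfsg.Agent.Lib.HP.HPDefs
import Cfsg.Agent.Lib.HP.HPCent
import Cfsg.Agent.Lib.HP.HPDeg

/-!
# HP farm (helper14), PIECE HP-SPLIT  [M]  (proved by helper4)

Split the universal product into the `y`-degree-1 part `E ^ (e(yx…x) - e(xyx…x))`, `E = iterComm y x (p-1)`, and the part
of `y`-degree `≥ 2`.  Recipe: all factors are central (`lncw_mem`, `mem_allWords`, `K_le_center_of_succ_eq_bot`, `zpow_mem`);
`hp_prod_filter` with `P w := decide (2 ≤ w.count true)`; in the complementary part only `wordY p` and `wordXY p` contribute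
(`hp_deg_le_one`; `hp_prod_two` on the filtered list, `List.Nodup.filter`, `allWords_nodup`, `wordY_ne_wordXY`), their factors are
`E ^ e₀` and `(E⁻¹) ^ e₁` (`hp_wordY`, `hp_wordXY`), `inv_zpow`, `zpow_sub`; central elements commute.
-/

set_option autoImplicit false

namespace Cfsg.Agent.Helper21.MC

open scoped commutatorElement

variable {G : Type*} [Group G]

theorem hp_split (p : ℕ) (hp : 2 ≤ p) (h : K G (p + 1) = ⊥) (x y : G) (e : List Bool → ℤ) :
    ((allWords p).map fun w => lncw x y w ^ e w).prod =
      iterComm y x (p - 1) ^ (e (wordY p) - e (wordXY p)) *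
        (((allWords p).filter fun w => decide (2 ≤ w.count true)).map fun w => lncw x y w ^ e w).prod := by
  classical
  have hp1 : 1 ≤ p := by omega
  set f : List Bool → G := fun w => lncw x y w ^ e w with hf
  set P : List Bool → Bool := fun w => decide (2 ≤ w.count true) with hP
  have hcen : K G p ≤ Subgroup.center G := K_le_center_of_succ_eq_bot p hp1 h
  -- all factors are central
  have hc : ∀ w ∈ allWords p, f w ∈ Subgroup.center G := by
    intro w hw
    have hlen : w.length = p := (mem_allWords p w).1 hw
    have h1 : lncw x y w ∈ K G w.length := lncw_mem x y w (by omega)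
    rw [hlen] at h1
    exact Subgroup.zpow_mem _ (hcen h1) _
  have hsplit := hp_prod_filter (allWords p) f hc P
  -- the complementary part
  set l' : List (List Bool) := (allWords p).filter fun w => !P w with hl'
  have hnd : l'.Nodup := (allWords_nodup p).filter _
  have hmem : ∀ w, w ∈ l' ↔ w.length = p ∧ w.count true ≤ 1 := by
    intro w
    rw [hl', List.mem_filter, mem_allWords]
    constructor
    · rintro ⟨h1, h2⟩
      refine ⟨h1, ?_⟩
      simp only [hP, Bool.not_eq_true', decide_eq_false_iff_not, not_le] at h2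
      omega
    · rintro ⟨h1, h2⟩
      refine ⟨h1, ?_⟩
      simp only [hP, Bool.not_eq_true', decide_eq_false_iff_not, not_le]
      omega
  have hY : wordY p ∈ l' := by
    rw [hmem]
    exact ⟨wordY_length p hp1, by rw [wordY_count]⟩
  have hXY : wordXY p ∈ l' := by
    rw [hmem]
    exact ⟨wordXY_length p hp, by rw [wordXY_count]⟩
  have hfY : f (wordY p) = iterComm y x (p - 1) ^ e (wordY p) := by
    rw [hf]
    show lncw x y (wordY p) ^ e (wordY p) = _
    rw [hp_wordY x y p hp1]
  have hfXY : f (wordXY p) = (iterComm y x (p - 1) ^ e (wordXY p))⁻¹ := by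
    rw [hf]
    show lncw x y (wordXY p) ^ e (wordXY p) = _
    rw [hp_wordXY x y p hp h, inv_zpow]
  have hcomm : f (wordY p) * f (wordXY p) = f (wordXY p) * f (wordY p) := by
    have := hc (wordXY p) ((mem_allWords p _).2 (wordXY_length p hp))
    rw [Subgroup.mem_center_iff] at this
    exact this (f (wordY p))
  have hone : ∀ w ∈ l', w ≠ wordY p → w ≠ wordXY p → f w = 1 := by
    intro w hw h0 h1
    obtain ⟨hlen, hcnt⟩ := (hmem w).1 hw
    rw [hf]
    show lncw x y w ^ e w = 1
    rw [hp_deg_le_one x y p hp w hlen hcnt h0 h1, one_zpow]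
  have hB := hp_prod_two l' hnd f (wordY p) (wordXY p) hY hXY (wordY_ne_wordXY p) hcomm hone
  rw [hsplit, hB, hfY, hfXY, ← zpow_sub]
  -- commute the central element to the front
  have hEc : iterComm y x (p - 1) ^ (e (wordY p) - e (wordXY p)) ∈ Subgroup.center G := by
    have h1 : iterComm y x (p - 1) ∈ K G p := by
      have h2 := lncw_mem x y (wordY p) (by rw [wordY_length p hp1]; exact hp1)
      rwa [wordY_length p hp1, hp_wordY x y p hp1] at h2
    exact Subgroup.zpow_mem _ (hcen h1) _
  rw [Subgroup.mem_center_iff] at hEc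
  exact hEc _

end Cfsg.Agent.Helper21.MC
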