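import Mathlib
import Cfsg.Agent.Lib.HP.HPDefs

/-!
# HP farm (helper14), PIECE HP-GEN  [H]  (proved by helper27)

If `G = ⟨x, y⟩` then `K G n` is generated modulo `K G (n+1)` by the values `lncw x y w` of the words of length `n`.
Recipe: induction on `n`.  `n = 1`: `K G 1 = ⊤ = closure {x, y}` and `lncw x y [b] = letter x y b`.
Step: `K G (n+1) = ⁅K G n, ⊤⁆` (`K_succ`) is generated by the `⁅a, g⁆`, `a ∈ K G n`; show that
`T := closure {lncw x y w : |w| = n+1} ⊔ K G (n+2)` (a subgroup; `K G (n+2)` is normal) contains them: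
modulo `K G (n+2)` the commutator `⁅a, g⁆` (degrees `(n, 1)`) is multiplicative in `a` and in `g`
(`comm_mul_left_cong`, `comm_mul_right_cong`, `comm_inv_left_cong`, `comm_inv_right_cong`, `comm_cong_left`), depends on `a`
only modulo `K G (n+1)`, and `⁅lncw x y w, letter x y b⁆ = lncw x y (w ++ [b])` (`lncw_append_singleton`).  Use
`Subgroup.closure_induction` on `g ∈ closure {x, y}` and on `a ∈ closure {...} ⊔ K G (n+1)` (`Subgroup.mem_sup` as
`K G (n+1)` is normal).  Aux names prefixed `hpgen_`; keep names/statements/namespace; no sorry; scan; land; mark done.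
-/

set_option autoImplicit false

namespace Cfsg.Agent.Helper21.MC

open scoped commutatorElement

variable {G : Type*} [Group G]

/-- the values of the words of length `n` -/
def hpgen_S (x y : G) (n : ℕ) : Set G := {g | ∃ w : List Bool, w.length = n ∧ g = lncw x y w}

theorem hpgen_S_le (x y : G) (n : ℕ) (hn : 1 ≤ n) : Subgroup.closure (hpgen_S x y n) ≤ K G n := by
  rw [Subgroup.closure_le]
  rintro g ⟨w, hw, rfl⟩
  have := lncw_mem x y w (by omega)
  rwa [hw] at this

theorem hpgen_mem_top (g : G) : g ∈ K G 1 := by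
  rw [K_one]
  exact Subgroup.mem_top g

/-- membership in a subgroup containing `K G (D+1)` transfers along congruence -/
theorem hpgen_cong_mem {D : ℕ} (T : Subgroup G) (hT : K G (D + 1) ≤ T) {u v : G} (hu : u ∈ T)
    (h : Cong G D u v) : v ∈ T := by
  have h1 : u⁻¹ * v ∈ T := hT h
  have h2 := T.mul_mem hu h1
  rwa [mul_inv_cancel_left] at h2

/-- if the commutators of `a ∈ K G n` with the two letters lie in `T ≥ K G (n+2)`, so do all `⁅a, g⁆` -/
theorem hpgen_all_of_letters (x y : G) (hxy : Subgroup.closure {x, y} = ⊤) (n : ℕ) (hn : 1 ≤ n)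
    (T : Subgroup G) (hT : K G (n + 1 + 1) ≤ T) (a : G) (ha : a ∈ K G n)
    (hl : ∀ b : Bool, ⁅a, letter x y b⁆ ∈ T) (g : G) : ⁅a, g⁆ ∈ T := by
  have hg : g ∈ Subgroup.closure ({x, y} : Set G) := by
    rw [hxy]
    exact Subgroup.mem_top g
  induction hg using Subgroup.closure_induction with
  | mem z hz =>
    rcases hz with rfl | hz
    · have := hl false
      simpa [letter] using this
    · rw [Set.mem_singleton_iff] at hz
      subst hz
      have := hl true
      simpa [letter] using this
  | one =>
    rw [commutatorElement_one_right]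
    exact T.one_mem
  | mul g₁ g₂ _ _ h₁ h₂ =>
    have hc := comm_mul_right_cong hn le_rfl ha (hpgen_mem_top g₁) (hpgen_mem_top g₂)
    exact hpgen_cong_mem T hT (T.mul_mem h₁ h₂) hc.symm
  | inv g₁ _ h₁ =>
    have hc := comm_inv_right_cong hn le_rfl ha (hpgen_mem_top g₁)
    exact hpgen_cong_mem T hT (T.inv_mem h₁) hc.symm

theorem hp_gen_step (x y : G) (hxy : Subgroup.closure {x, y} = ⊤) (n : ℕ) (hn : 1 ≤ n) :
    K G n ≤ Subgroup.closure {g | ∃ w : List Bool, w.length = n ∧ g = lncw x y w} ⊔ K G (n + 1) := by
  induction n, hn using Nat.le_induction with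
  | base =>
    refine le_trans ?_ le_sup_left
    rw [K_one, ← hxy, Subgroup.closure_le]
    intro g hg
    apply Subgroup.subset_closure
    rcases hg with rfl | hg
    · refine ⟨[false], rfl, ?_⟩
      simp [lncw, lnc_singleton, letter]
    · rw [Set.mem_singleton_iff] at hg
      subst hg
      refine ⟨[true], rfl, ?_⟩
      simp [lncw, lnc_singleton, letter]
  | succ n hn ih =>
    set T : Subgroup G :=
      Subgroup.closure {g | ∃ w : List Bool, w.length = n + 1 ∧ g = lncw x y w} ⊔ K G (n + 1 + 1) with hTdef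
    have hT : K G (n + 1 + 1) ≤ T := le_sup_right
    have hST : ∀ w : List Bool, w.length = n + 1 → lncw x y w ∈ T := fun w hw =>
      (le_sup_left : Subgroup.closure _ ≤ T) (Subgroup.subset_closure ⟨w, hw, rfl⟩)
    -- the elements of the closure of the words of length `n` are good
    have hgoodS : ∀ u ∈ Subgroup.closure (hpgen_S x y n), ∀ g : G, ⁅u, g⁆ ∈ T := by
      intro u hu
      have hSK := hpgen_S_le x y n hn
      induction hu using Subgroup.closure_induction with
      | mem z hz =>
        obtain ⟨w, hw, rfl⟩ := hz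
        have hwne : w ≠ [] := by
          intro h0
          rw [h0] at hw
          simp at hw
          omega
        have hmem : lncw x y w ∈ K G n := hSK (Subgroup.subset_closure ⟨w, hw, rfl⟩)
        refine hpgen_all_of_letters x y hxy n hn T hT _ hmem ?_
        intro b
        rw [← lncw_append_singleton x y w hwne b]
        apply hST
        rw [List.length_append, hw]
        rfl
      | one =>
        intro g
        rw [commutatorElement_one_left]
        exact T.one_mem
      | mul u₁ u₂ hu₁ hu₂ h₁ h₂ =>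
        intro g
        have hc := comm_mul_left_cong hn le_rfl (hSK hu₁) (hSK hu₂) (hpgen_mem_top g)
        exact hpgen_cong_mem T hT (T.mul_mem (h₁ g) (h₂ g)) hc.symm
      | inv u₁ hu₁ h₁ =>
        intro g
        have hc := comm_inv_left_cong hn le_rfl (hSK hu₁) (hpgen_mem_top g)
        exact hpgen_cong_mem T hT (T.inv_mem (h₁ g)) hc.symm
    rw [K_succ n hn, Subgroup.commutator_le]
    intro a ha g _
    have ha' := ih ha
    obtain ⟨u, hu, v, hv, rfl⟩ := Subgroup.mem_sup_of_normal_right.1 ha'
    have huK : u ∈ K G n := hpgen_S_le x y n hn hu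
    have hvK : v ∈ K G n := K_antitone (Nat.le_succ n) hv
    have hc := comm_mul_left_cong hn le_rfl huK hvK (hpgen_mem_top g)
    have hv2 : ⁅v, g⁆ ∈ T := hT (comm_mem_succ (by omega) hv g)
    exact hpgen_cong_mem T hT (T.mul_mem (hgoodS u hu g) hv2) hc.symm

theorem hp_gen (x y : G) (hxy : Subgroup.closure {x, y} = ⊤) (n : ℕ) (hn : 1 ≤ n) (h : K G (n + 1) = ⊥) :
    K G n ≤ Subgroup.closure {g | ∃ w : List Bool, w.length = n ∧ g = lncw x y w} := by
  have := hp_gen_step x y hxy n hn
  rwa [h, sup_bot_eq] at this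

end Cfsg.Agent.Helper21.MC
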