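import Mathlib
import Cfsg.Agent.Lib.HP.HPDefs
import Cfsg.Agent.Lib.Helper21.PolySeq

/-!
# HP farm (helper14), PIECE HP-PHI  [M]  -- STUB

`φ(x,y) = (y⁻¹)^p (x⁻¹)^p (xy)^p ∈ K G p` when `K G 2` has exponent dividing `p`.
Recipe: in `Ḡ = G ⧸ K G p` apply `Cfsg.Agent.Helper21.PolySeq.pow_mul_pow_mem` with `F i := K Ḡ i`
(`K_antitone`; `⁅F i, F j⁆ ≤ F (i+j)` by `K_comm_le` for `i, j ≥ 1` and normality for `i = 0` or `j = 0`, note
`K Ḡ 0 = K Ḡ 1 = ⊤`), `F p = (K G p).map mk = ⊥` (`K_map`), `M := ⊥` (`hM`: `x ∈ K Ḡ 2 = (K G 2).map mk` so `x ^ p = 1`),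
`a := mk x`, `b := mk y`.  Then `mk φ = 1`, i.e. `φ ∈ K G p` (`QuotientGroup.eq_one_iff`).
Aux names prefixed `hpphi_`; keep names/statements/namespace; no sorry; scan; land; mark done.
-/

set_option autoImplicit false

namespace Cfsg.Agent.Helper21.MC

open scoped commutatorElement

variable {G : Type*} [Group G]

theorem hp_phi_mem {p : ℕ} [Fact p.Prime] (h2 : ∀ c ∈ K G 2, c ^ p = 1) (x y : G) :
    (y⁻¹) ^ p * (x⁻¹) ^ p * (x * y) ^ p ∈ K G p := by
  have hp : p.Prime := Fact.out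
  set f : G →* G ⧸ K G p := QuotientGroup.mk' (K G p) with hf
  have hsurj : Function.Surjective f := QuotientGroup.mk'_surjective _
  have hF : Antitone (fun i => K (G ⧸ K G p) i) := K_antitone
  have h0 : K (G ⧸ K G p) 0 = ⊤ := rfl
  have hc : ∀ i j, ⁅K (G ⧸ K G p) i, K (G ⧸ K G p) j⁆ ≤ K (G ⧸ K G p) (i + j) := by
    intro i j
    rcases Nat.eq_zero_or_pos i with hi | hi
    · subst hi
      rw [zero_add]
      exact Subgroup.commutator_le_right _ _
    · rcases Nat.eq_zero_or_pos j with hj | hj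
      · subst hj
        rw [add_zero]
        exact Subgroup.commutator_le_left _ _
      · exact K_comm_le i j hi hj
  have hFp : K (G ⧸ K G p) p = ⊥ := by
    rw [← K_map f hsurj p, hf, QuotientGroup.map_mk'_self]
  have hM : ∀ z ∈ K (G ⧸ K G p) 2, z ^ p ∈ (⊥ : Subgroup (G ⧸ K G p)) := by
    intro z hz
    rw [← K_map f hsurj 2] at hz
    obtain ⟨c, hc', rfl⟩ := hz
    rw [Subgroup.mem_bot, ← map_pow, h2 c hc', map_one]
  have h1 : ∀ g : G, f g ∈ K (G ⧸ K G p) 1 := by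
    intro g
    rw [K_one]
    exact Subgroup.mem_top _
  have key := Cfsg.Agent.Helper21.PolySeq.pow_mul_pow_mem (F := fun i => K (G ⧸ K G p) i) hF hc hp hFp ⊥ hM
    (h1 x) (h1 y)
  rw [Subgroup.mem_bot] at key
  have e : f ((y⁻¹) ^ p * (x⁻¹) ^ p * (x * y) ^ p) = 1 := by
    rw [map_mul, map_mul, map_pow, map_pow, map_pow, map_inv, map_inv, map_mul]
    exact key
  rw [hf, QuotientGroup.mk'_apply] at e
  exact (QuotientGroup.eq_one_iff _).1 e

end Cfsg.Agent.Helper21.MC
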