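import Mathlib
import Cfsg.Agent.Lib.HP.HPDefs

/-!
# HP farm (helper14), PIECE HP-Q  [M]  -- STUB

The universal 2-generator group with `K_{p+1} = 1` and `exp K_2 ∣ p`: `hpQ p = FreeGroup (Fin 2) ⧸ hpN p`.
Recipe: `K_map` (image of `K` under the surjection `mk`) gives `K (hpQ p) i = (K F i).map mk`; the generators of `hpN p`
die in the quotient (`Subgroup.subset_normalClosure`).  `hpQ_closure`: `FreeGroup` is generated by the `of i`
(`FreeGroup.closure_range_of` / induction), `Fin 2 = {0, 1}`.  `hp_lift`: `f₀ := FreeGroup.lift ![x, y]`;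
`hpN p ≤ f₀.ker` by `Subgroup.normalClosure_le_normal` (image of `K F i` under ANY hom lies in `K G i`: induction on `i`
with `K_succ`, or `Subgroup.map_lowerCentralSeries_le`-style Mathlib lemmas; `f₀ (c ^ p) = (f₀ c) ^ p = 1`), then `QuotientGroup.lift`.
Aux names prefixed `hpq_`; keep names/statements/namespace; no sorry; scan; land; mark done.
-/

set_option autoImplicit false

namespace Cfsg.Agent.Helper21.MC

open scoped commutatorElement

/-- the relations: `K_{p+1}` and the `p`-th powers of `K_2` -/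
def hpN (p : ℕ) : Subgroup (FreeGroup (Fin 2)) :=
  Subgroup.normalClosure (((K (FreeGroup (Fin 2)) (p + 1) : Subgroup (FreeGroup (Fin 2))) : Set (FreeGroup (Fin 2))) ∪
    {g | ∃ c ∈ K (FreeGroup (Fin 2)) 2, g = c ^ p})

instance hpN_normal (p : ℕ) : (hpN p).Normal := Subgroup.normalClosure_normal

/-- the universal group -/
abbrev hpQ (p : ℕ) : Type := FreeGroup (Fin 2) ⧸ hpN p

/-- the generator `x` -/
def hpX (p : ℕ) : hpQ p := QuotientGroup.mk (FreeGroup.of 0)

/-- the generator `y` -/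
def hpY (p : ℕ) : hpQ p := QuotientGroup.mk (FreeGroup.of 1)

/-- image of `K` under any homomorphism -/
theorem hpq_K_map_le {G H : Type*} [Group G] [Group H] (f : G →* H) (i : ℕ) :
    (K G i).map f ≤ K H i := by
  unfold K
  rw [Subgroup.map_lowerCentralSeries]
  exact Subgroup.lowerCentralSeries_mono _ le_top

theorem hpq_K_eq_map (p : ℕ) (i : ℕ) :
    K (hpQ p) i = (K (FreeGroup (Fin 2)) i).map (QuotientGroup.mk' (hpN p)) :=
  (K_map (QuotientGroup.mk' (hpN p)) (QuotientGroup.mk'_surjective _) i).symm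

theorem hpq_K_le (p : ℕ) : K (FreeGroup (Fin 2)) (p + 1) ≤ hpN p := by
  intro g hg
  exact Subgroup.subset_normalClosure (Or.inl hg)

theorem hpq_pow_mem (p : ℕ) {c : FreeGroup (Fin 2)} (hc : c ∈ K (FreeGroup (Fin 2)) 2) :
    c ^ p ∈ hpN p :=
  Subgroup.subset_normalClosure (Or.inr ⟨c, hc, rfl⟩)

theorem hpQ_K_eq_bot (p : ℕ) : K (hpQ p) (p + 1) = ⊥ := by
  rw [hpq_K_eq_map, eq_bot_iff]
  rintro _ ⟨g, hg, rfl⟩
  rw [Subgroup.mem_bot, QuotientGroup.mk'_apply, QuotientGroup.eq_one_iff]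
  exact hpq_K_le p hg

theorem hpQ_exp (p : ℕ) : ∀ c ∈ K (hpQ p) 2, c ^ p = 1 := by
  intro c hc
  rw [hpq_K_eq_map] at hc
  obtain ⟨g, hg, rfl⟩ := hc
  rw [QuotientGroup.mk'_apply, ← QuotientGroup.mk_pow, QuotientGroup.eq_one_iff]
  exact hpq_pow_mem p hg

theorem hpQ_closure (p : ℕ) : Subgroup.closure {hpX p, hpY p} = ⊤ := by
  have h1 : Subgroup.closure ({FreeGroup.of 0, FreeGroup.of 1} : Set (FreeGroup (Fin 2))) = ⊤ := by
    rw [← FreeGroup.closure_range_of]
    congr 1
    ext g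
    simp only [Set.mem_insert_iff, Set.mem_singleton_iff, Set.mem_range]
    constructor
    · rintro (rfl | rfl)
      · exact ⟨0, rfl⟩
      · exact ⟨1, rfl⟩
    · rintro ⟨i, rfl⟩
      fin_cases i
      · left; rfl
      · right; rfl
  have h2 : (Subgroup.closure ({FreeGroup.of 0, FreeGroup.of 1} : Set (FreeGroup (Fin 2)))).map
      (QuotientGroup.mk' (hpN p)) = Subgroup.closure {hpX p, hpY p} := by
    rw [MonoidHom.map_closure]
    congr 1
    ext g
    simp only [Set.mem_image, Set.mem_insert_iff, Set.mem_singleton_iff, hpX, hpY]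
    constructor
    · rintro ⟨a, (rfl | rfl), rfl⟩
      · left; rfl
      · right; rfl
    · rintro (rfl | rfl)
      · exact ⟨_, Or.inl rfl, rfl⟩
      · exact ⟨_, Or.inr rfl, rfl⟩
  rw [← h2, h1, Subgroup.map_top_of_surjective _ (QuotientGroup.mk'_surjective _)]

theorem hp_lift {G : Type*} [Group G] (p : ℕ) (h1 : K G (p + 1) = ⊥) (h2 : ∀ c ∈ K G 2, c ^ p = 1) (x y : G) :
    ∃ f : hpQ p →* G, f (hpX p) = x ∧ f (hpY p) = y := by
  set f₀ : FreeGroup (Fin 2) →* G := FreeGroup.lift ![x, y] with hf₀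
  have hker : hpN p ≤ f₀.ker := by
    apply Subgroup.normalClosure_le_normal
    rintro g (hg | ⟨c, hc, rfl⟩)
    · rw [SetLike.mem_coe, MonoidHom.mem_ker]
      have h3 : f₀ g ∈ K G (p + 1) := hpq_K_map_le f₀ (p + 1) (Subgroup.mem_map_of_mem _ hg)
      rw [h1, Subgroup.mem_bot] at h3
      exact h3
    · rw [SetLike.mem_coe, MonoidHom.mem_ker, map_pow]
      exact h2 _ (hpq_K_map_le f₀ 2 (Subgroup.mem_map_of_mem _ hc))
  refine ⟨QuotientGroup.lift (hpN p) f₀ hker, ?_, ?_⟩
  · show QuotientGroup.lift (hpN p) f₀ hker (QuotientGroup.mk (FreeGroup.of 0)) = x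
    rw [QuotientGroup.lift_mk, hf₀, FreeGroup.lift_apply_of]
    rfl
  · show QuotientGroup.lift (hpN p) f₀ hker (QuotientGroup.mk (FreeGroup.of 1)) = y
    rw [QuotientGroup.lift_mk, hf₀, FreeGroup.lift_apply_of]
    rfl

end Cfsg.Agent.Helper21.MC
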