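import Mathlib
import Cfsg.Agent.Lib.HP.HPDefs
import Cfsg.Agent.Lib.HP.HPGen
import Cfsg.Agent.Lib.HP.HPPhi
import Cfsg.Agent.Lib.HP.HPCent
import Cfsg.Agent.Lib.HP.HPQ

/-!
# HP farm (helper14), PIECE HP-UNIV  [M]

Universal exponents.  In `hpQ p`: `φ ∈ K p` (`hp_phi_mem` with `hpQ_exp`), `K p ≤ closure {lncw X Y w : |w| = p}`
(`hp_gen` with `hpQ_closure`, `hpQ_K_eq_bot`), all these values are central (`lncw_mem`, `K_le_center_of_succ_eq_bot`),
so `hp_closure_prod` (with `l := allWords p`, `allWords_nodup`, `mem_allWords`) gives the exponents: `hp_exists_exp`.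
`hp_univ`: apply the `f` of `hp_lift` to the identity (`map_list_prod`, `map_zpow`, `lncw_map`, `List.map_map`).
Aux names prefixed `hpuniv_`.
-/

set_option autoImplicit false

namespace Cfsg.Agent.Helper21.MC

open scoped commutatorElement

theorem hp_exists_exp (p : ℕ) [Fact p.Prime] : ∃ e : List Bool → ℤ,
    ((hpY p)⁻¹) ^ p * ((hpX p)⁻¹) ^ p * (hpX p * hpY p) ^ p =
      ((allWords p).map fun w => lncw (hpX p) (hpY p) w ^ e w).prod := by
  have hp : p.Prime := Fact.out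
  have hp1 : 1 ≤ p := hp.one_lt.le
  have hφ : ((hpY p)⁻¹) ^ p * ((hpX p)⁻¹) ^ p * (hpX p * hpY p) ^ p ∈ K (hpQ p) p :=
    hp_phi_mem (hpQ_exp p) (hpX p) (hpY p)
  have hgen := hp_gen (hpX p) (hpY p) (hpQ_closure p) p hp1 (hpQ_K_eq_bot p)
  have hset : {g : hpQ p | ∃ w : List Bool, w.length = p ∧ g = lncw (hpX p) (hpY p) w} =
      {a : hpQ p | ∃ i ∈ allWords p, a = lncw (hpX p) (hpY p) i} := by
    ext g
    constructor
    · rintro ⟨w, hw, rfl⟩
      exact ⟨w, (mem_allWords p w).mpr hw, rfl⟩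
    · rintro ⟨w, hw, rfl⟩
      exact ⟨w, (mem_allWords p w).mp hw, rfl⟩
  rw [hset] at hgen
  have hc : ∀ w ∈ allWords p, lncw (hpX p) (hpY p) w ∈ Subgroup.center (hpQ p) := by
    intro w hw
    have hlen : w.length = p := (mem_allWords p w).mp hw
    have hm : lncw (hpX p) (hpY p) w ∈ K (hpQ p) w.length :=
      lncw_mem (hpX p) (hpY p) w (by omega)
    rw [hlen] at hm
    exact K_le_center_of_succ_eq_bot p hp1 (hpQ_K_eq_bot p) hm
  exact hp_closure_prod (allWords p) (allWords_nodup p) (fun w => lncw (hpX p) (hpY p) w) hc _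
    (hgen hφ)

/-- the universal exponents of the top term of Hall--Petrescu -/
noncomputable def hpExp (p : ℕ) [Fact p.Prime] : List Bool → ℤ := Classical.choose (hp_exists_exp p)

theorem hpuniv_spec (p : ℕ) [Fact p.Prime] :
    ((hpY p)⁻¹) ^ p * ((hpX p)⁻¹) ^ p * (hpX p * hpY p) ^ p =
      ((allWords p).map fun w => lncw (hpX p) (hpY p) w ^ hpExp p w).prod := by
  exact Classical.choose_spec (hp_exists_exp p)

theorem hp_univ {G : Type*} [Group G] (p : ℕ) [Fact p.Prime] (h1 : K G (p + 1) = ⊥)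
    (h2 : ∀ c ∈ K G 2, c ^ p = 1) (x y : G) :
    (y⁻¹) ^ p * (x⁻¹) ^ p * (x * y) ^ p = ((allWords p).map fun w => lncw x y w ^ hpExp p w).prod := by
  obtain ⟨f, hfx, hfy⟩ := hp_lift p h1 h2 x y
  have h := congrArg f (hpuniv_spec p)
  rw [map_mul, map_mul, map_pow, map_pow, map_pow, map_inv, map_inv, map_mul, hfx, hfy,
    map_list_prod, List.map_map] at h
  rw [h]
  congr 1
  apply List.map_congr_left
  intro w _
  simp only [Function.comp, map_zpow, lncw_map, hfx, hfy]

end Cfsg.Agent.Helper21.MC
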