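import Mathlib
import Cfsg.Agent.Lib.HP.HPDefs
import Cfsg.Agent.Lib.HP.HPCent
import Cfsg.Agent.Lib.HP.HPUniv
import Cfsg.Agent.Lib.HP.HPDeg
import Cfsg.Agent.Lib.HP.HPSplit
import Cfsg.Agent.Lib.HP.HPModel

/-!
# HP farm (helper14), PIECE HP-MAIN  [M]  -- STUB

The exact top term of Hall--Petrescu: `(y⁻¹)^p (x⁻¹)^p (xy)^p = [y,x;p-1] ^ hpE p * R` with `p ∤ hpE p` and `R` a product of
left-normed commutators of weight `p` with at least two letters `y`.
Recipe: `hp_formula`: `hp_univ` then `hp_split` (with `e := hpExp p`); `R :=` the second factor; it lies in the closure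
(`Subgroup.list_prod_mem`, `zpow_mem`, `Subgroup.subset_closure`, `List.mem_filter`, `mem_allWords`).
`hpE_not_dvd`: take the model of `hp_model`; `hp_formula` there gives `(x*y)^p = E ^ hpE p * R` (`x^p = y^p = 1`, `inv_pow`), `R = 1`
(every generator of the closure is `1`: `Subgroup.closure_le` into `⊥`), so `E ^ hpE p ≠ 1`; `E ∈ K M 2` (`iterComm_mem` with
`K M 1 = ⊤`, `p - 1 ≥ 1`), so `E ^ p = 1`, and `p ∣ hpE p` would give `E ^ hpE p = 1` (`zpow_mul`, `zpow_natCast`).
Aux names prefixed `hpmain_`; keep names/statements/namespace; no sorry; scan; land; mark done.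
-/

set_option autoImplicit false

namespace Cfsg.Agent.Helper21.MC

open scoped commutatorElement

/-- the exponent of `[y, x; p-1]` in `(xy)^p` -/
noncomputable def hpE (p : ℕ) [Fact p.Prime] : ℤ := hpExp p (wordY p) - hpExp p (wordXY p)

theorem hp_formula {G : Type*} [Group G] (p : ℕ) [Fact p.Prime] (h1 : K G (p + 1) = ⊥)
    (h2 : ∀ c ∈ K G 2, c ^ p = 1) (x y : G) :
    ∃ R ∈ Subgroup.closure {g | ∃ w : List Bool, w.length = p ∧ 2 ≤ w.count true ∧ g = lncw x y w},
      (y⁻¹) ^ p * (x⁻¹) ^ p * (x * y) ^ p = iterComm y x (p - 1) ^ hpE p * R := by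
  have hp2 : 2 ≤ p := (Fact.out : p.Prime).two_le
  refine ⟨(((allWords p).filter fun w => decide (2 ≤ w.count true)).map
    fun w => lncw x y w ^ hpExp p w).prod, ?_, ?_⟩
  · apply Subgroup.list_prod_mem
    intro g hg
    rw [List.mem_map] at hg
    obtain ⟨w, hw, rfl⟩ := hg
    rw [List.mem_filter] at hw
    obtain ⟨hw1, hw2⟩ := hw
    apply Subgroup.zpow_mem
    apply Subgroup.subset_closure
    exact ⟨w, (mem_allWords p w).mp hw1, of_decide_eq_true hw2, rfl⟩
  · rw [hp_univ p h1 h2 x y, hp_split p hp2 h1 x y (hpExp p)]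
    rfl

theorem hpE_not_dvd (p : ℕ) [Fact p.Prime] : ¬ (p : ℤ) ∣ hpE p := by
  have hp2 : 2 ≤ p := (Fact.out : p.Prime).two_le
  obtain ⟨M, instM, x, y, hK, hexp, hx, hy, hxy, hw⟩ := hp_model p
  obtain ⟨R, hR, hform⟩ := hp_formula p hK hexp x y
  have hR1 : R = 1 := by
    have hle : Subgroup.closure {g : M | ∃ w : List Bool, w.length = p ∧ 2 ≤ w.count true ∧
        g = lncw x y w} ≤ ⊥ := by
      rw [Subgroup.closure_le]
      rintro g ⟨w, -, hw2, rfl⟩
      rw [hw w hw2]
      exact Subgroup.one_mem _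
    exact Subgroup.mem_bot.mp (hle hR)
  rw [hR1, mul_one, inv_pow, inv_pow, hx, hy, inv_one, one_mul, one_mul] at hform
  have hE2 : iterComm y x (p - 1) ∈ K M 2 := by
    have h1 : y ∈ K M 1 := by
      rw [K_one]
      exact Subgroup.mem_top y
    have h2 := iterComm_mem (le_refl 1) h1 x (p - 1)
    exact K_antitone (by omega : 2 ≤ 1 + (p - 1)) h2
  have hEp : iterComm y x (p - 1) ^ p = 1 := hexp _ hE2
  rintro ⟨k, hk⟩
  apply hxy
  rw [hform, hk, zpow_mul, zpow_natCast, hEp, one_zpow]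

end Cfsg.Agent.Helper21.MC
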