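import Mathlib
import Cfsg.Agent.Lib.HP.HPDefs

/-!
# HP farm (helper14), PIECE HP-MULTI  [M]

Multilinearity: replacing `y` by `y ^ k` multiplies the value of a word of length `n` by `k ^ (number of letters y)`,
modulo `K G (n+1)`.  Recipe: `List.reverseRecOn` / induction on words from the right with `lncw_append_singleton`;
`w = [b]`: equality.  Step `w ++ [b]`, `|w| = n ≥ 1`, `c := lncw x y w ∈ K G n` (`lncw_mem`), `c' := lncw x (y^k) w`
(also in `K G n`), IH `Cong G n c' (c ^ m)`: `⁅c', z'⁆ ≡ ⁅c ^ m, z'⁆` (`comm_cong_left`, degrees `(n, 1)`, `K G 1 = ⊤`)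
`≡ ⁅c, z'⁆ ^ m` (`comm_pow_left_cong`), and `z' = z ^ k'` (`k' = k` if `b` else `1`), `⁅c, z ^ k'⁆ ≡ ⁅c, z⁆ ^ k'`
(`comm_pow_right_cong`), `Cong.pow`, `pow_mul`, `List.count_append`.  `hp_scale`: `Cong` modulo `K G (n+1) = ⊥` is equality.
Aux names prefixed `hpmulti_`.
-/

set_option autoImplicit false

namespace Cfsg.Agent.Helper21.MC

open scoped commutatorElement

variable {G : Type*} [Group G]

theorem hpmulti_mem_K_one (g : G) : g ∈ K G 1 := by
  rw [K_one]
  exact Subgroup.mem_top g

theorem hpmulti_letter_pow (x y : G) (k : ℕ) (b : Bool) :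
    letter x (y ^ k) b = letter x y b ^ (if b then k else 1) := by
  cases b <;> simp [letter]

theorem hpmulti_lncw_singleton (x y : G) (b : Bool) : lncw x y [b] = letter x y b := by
  unfold lncw
  rw [List.map_cons, List.map_nil, lnc_singleton]

theorem hp_scale_cong (x y : G) (k : ℕ) (w : List Bool) (hw : 1 ≤ w.length) :
    Cong G w.length (lncw x (y ^ k) w) (lncw x y w ^ (k ^ w.count true)) := by
  induction w using List.reverseRecOn with
  | nil => simp at hw
  | append_singleton w b ih =>
    by_cases hwn : w = []
    · subst hwn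
      rw [List.nil_append, hpmulti_lncw_singleton, hpmulti_lncw_singleton, hpmulti_letter_pow]
      cases b
      · simp only [Bool.false_eq_true, if_false, pow_one]
        have h0 : List.count true [false] = 0 := by simp
        rw [h0, pow_zero, pow_one]
        exact Cong.refl _ _
      · simp only [if_true]
        have h1 : List.count true [true] = 1 := by simp
        rw [h1, pow_one]
        exact Cong.refl _ _
    · have hn : 1 ≤ w.length := by
        rcases w with _ | ⟨a, t⟩
        · exact absurd rfl hwn
        · simp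
      have hl : (w ++ [b]).length = w.length + 1 := by simp
      rw [hl, lncw_append_singleton x (y ^ k) w hwn b, lncw_append_singleton x y w hwn b]
      have ih' := ih hn
      have hc' : lncw x (y ^ k) w ∈ K G w.length := lncw_mem x (y ^ k) w hn
      have hc : lncw x y w ∈ K G w.length := lncw_mem x y w hn
      have hz' : letter x (y ^ k) b ∈ K G 1 := hpmulti_mem_K_one _
      have hz : letter x y b ∈ K G 1 := hpmulti_mem_K_one _
      have s1 : Cong G (w.length + 1) ⁅lncw x (y ^ k) w, letter x (y ^ k) b⁆
          ⁅lncw x y w ^ (k ^ w.count true), letter x (y ^ k) b⁆ :=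
        comm_cong_left hn le_rfl hc' ih' hz'
      have s2 : Cong G (w.length + 1) ⁅lncw x y w ^ (k ^ w.count true), letter x (y ^ k) b⁆
          (⁅lncw x y w, letter x (y ^ k) b⁆ ^ (k ^ w.count true)) :=
        comm_pow_left_cong hn le_rfl hc hz' _
      have s3 : Cong G (w.length + 1) ⁅lncw x y w, letter x y b ^ (if b then k else 1)⁆
          (⁅lncw x y w, letter x y b⁆ ^ (if b then k else 1)) :=
        comm_pow_right_cong hn le_rfl hc hz _
      rw [← hpmulti_letter_pow] at s3
      have s4 := s3.pow (k ^ w.count true)
      have s5 := (s1.trans s2).trans s4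
      have hcount : k ^ (w ++ [b]).count true = (if b then k else 1) * k ^ w.count true := by
        rw [List.count_append]
        cases b
        · simp
        · simp [pow_succ, mul_comm]
      rw [hcount, pow_mul]
      exact s5

theorem hp_scale (n : ℕ) (hn : 1 ≤ n) (h : K G (n + 1) = ⊥) (x y : G) (k : ℕ) (w : List Bool)
    (hw : w.length = n) : lncw x (y ^ k) w = lncw x y w ^ (k ^ w.count true) := by
  have hc := hp_scale_cong x y k w (by omega)
  unfold Cong at hc
  rw [hw, h, Subgroup.mem_bot] at hc
  exact inv_mul_eq_one.mp hc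

end Cfsg.Agent.Helper21.MC
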