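import Mathlib

/-!
# HP farm (helper14), PIECE HP-SUM [E]  (helper12; Mathlib only)

`hp_sum_pow`: power sums over `1..p-1` modulo `p` (`FiniteField.sum_pow_units` and a bijection of `Ico 1 p` with the units of
`ZMod p`).
-/

set_option autoImplicit false

namespace Cfsg.Agent.Helper21.MC

theorem hpsum_ne_zero (p : ℕ) [Fact p.Prime] (v : ℕ) (hv : v ∈ Finset.Ico 1 p) : (v : ZMod p) ≠ 0 := by
  rw [Finset.mem_Ico] at hv
  intro h0
  rw [ZMod.natCast_eq_zero_iff] at h0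
  have := Nat.le_of_dvd (by omega) h0
  omega

theorem hp_sum_pow (p : ℕ) [Fact p.Prime] (m : ℕ) :
    (∑ k ∈ Finset.Ico 1 p, ((k : ZMod p)) ^ m) = if (p - 1) ∣ m then -1 else 0 := by
  have hbij : (∑ v ∈ Finset.Ico 1 p, (v : ZMod p) ^ m) = ∑ u : (ZMod p)ˣ, ((u : (ZMod p)ˣ) : ZMod p) ^ m := by
    refine Finset.sum_bij'
      (fun v hv => Units.mk0 (v : ZMod p) (hpsum_ne_zero p v hv))
      (fun u _ => (u : ZMod p).val)
      (fun _ _ => Finset.mem_univ _)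
      (fun u _ => ?_)
      (fun v hv => ?_)
      (fun u _ => Units.ext (ZMod.natCast_zmod_val _))
      (fun _ _ => rfl)
    · rw [Finset.mem_Ico]
      refine ⟨?_, ZMod.val_lt _⟩
      have h0 : (u : ZMod p).val ≠ 0 := by
        rw [Ne, ZMod.val_eq_zero]
        exact u.ne_zero
      omega
    · rw [Finset.mem_Ico] at hv
      simp only [Units.val_mk0]
      exact ZMod.val_cast_of_lt hv.2
  rw [hbij]
  have h1 := FiniteField.sum_pow_units (ZMod p) m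
  rw [ZMod.card] at h1
  simpa using h1

theorem hp_sum_pow_dvd (p : ℕ) [Fact p.Prime] (m : ℕ) (h : ¬ (p - 1) ∣ m) :
    (p : ℤ) ∣ ∑ k ∈ Finset.Ico 1 p, ((k : ℤ)) ^ m := by
  rw [← ZMod.intCast_zmod_eq_zero_iff_dvd]
  have h1 := hp_sum_pow p m
  rw [if_neg h] at h1
  rw [← h1]
  push_cast
  rfl

theorem hp_sum_pow_dvd' (p : ℕ) [Fact p.Prime] (m : ℕ) (h : (p - 1) ∣ m) :
    (p : ℤ) ∣ (∑ k ∈ Finset.Ico 1 p, ((k : ℤ)) ^ m) + 1 := by
  rw [← ZMod.intCast_zmod_eq_zero_iff_dvd]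
  have h1 := hp_sum_pow p m
  rw [if_pos h] at h1
  push_cast
  rw [h1]
  ring

end Cfsg.Agent.Helper21.MC
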