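import Mathlib
import Cfsg.Agent.Lib.HP.HPSum

/-!
# HP farm (helper14), PIECE HP-VDM [M]  -- STUB

`hp_vdm`: in a commutative group of exponent `p`, if `∏ i, c i ^ (e i * k ^ d i) = 1` for `k = 1, …, p-1` and `c i = 1` whenever
`d i = 0` or `p ≤ d i`, then the part of degree `1` is trivial: raise the `k`-th identity to the power `k ^ (p-2)` and multiply over `k`;
`Finset.prod_comm`, `Finset.prod_pow_eq_pow_sum`-style lemmas give `∏ i, c i ^ (e i * ∑ k, k ^ (d i + p - 2)) = 1`; for `d i = 1` the sum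
is `≡ -1`, for `2 ≤ d i ≤ p-1` it is `≡ 0` modulo `p` (`hp_sum_pow_dvd`, `hp_sum_pow_dvd'`: `d i + p - 2` is divisible by `p - 1` iff `d i = 1`
in this range) and `c i ^ p = 1` (so `c i ^ (p * t) = 1`, `zpow_mul`, `zpow_natCast`).
Aux names prefixed `hpvdm_`; keep names/statements/namespace; no sorry; scan; land; mark done.
-/

set_option autoImplicit false

namespace Cfsg.Agent.Helper21.MC

theorem hpvdm_zpow_sum {A : Type*} [CommGroup A] {κ : Type*} (t : Finset κ) (a : A) (f : κ → ℤ) :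
    ∏ k ∈ t, a ^ f k = a ^ ∑ k ∈ t, f k := by
  classical
  induction t using Finset.induction_on with
  | empty => simp
  | insert k t hk ih => rw [Finset.prod_insert hk, Finset.sum_insert hk, ih, zpow_add]

theorem hpvdm_zpow_mul_p {A : Type*} [CommGroup A] (p : ℕ) (hA : ∀ a : A, a ^ p = 1) (a : A)
    (t : ℤ) : a ^ ((p : ℤ) * t) = 1 := by
  rw [zpow_mul, zpow_natCast, hA, one_zpow]

theorem hp_vdm {A : Type*} [CommGroup A] (p : ℕ) [Fact p.Prime] (hA : ∀ a : A, a ^ p = 1) {ι : Type*}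
    (s : Finset ι) (c : ι → A) (d : ι → ℕ) (e : ι → ℤ)
    (hd : ∀ i ∈ s, (d i = 0 ∨ p ≤ d i) → c i = 1)
    (hk : ∀ k ∈ Finset.Ico 1 p, ∏ i ∈ s, c i ^ (e i * ((k : ℤ)) ^ (d i)) = 1) :
    ∏ i ∈ s.filter (fun i => d i = 1), c i ^ e i = 1 := by
  classical
  have hp : p.Prime := Fact.out
  have hp2 : 2 ≤ p := hp.two_le
  -- the combined identity
  have key : ∏ i ∈ s, c i ^ (e i * ∑ k ∈ Finset.Ico 1 p, ((k : ℤ)) ^ (d i + (p - 2))) = 1 := by
    have h1 : ∏ k ∈ Finset.Ico 1 p,
        (∏ i ∈ s, c i ^ (e i * ((k : ℤ)) ^ (d i))) ^ (((k : ℤ)) ^ (p - 2)) = 1 := by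
      apply Finset.prod_eq_one
      intro k hkk
      rw [hk k hkk, one_zpow]
    rw [← h1]
    have h2 : ∀ k ∈ Finset.Ico 1 p,
        (∏ i ∈ s, c i ^ (e i * ((k : ℤ)) ^ (d i))) ^ (((k : ℤ)) ^ (p - 2))
          = ∏ i ∈ s, c i ^ (e i * ((k : ℤ)) ^ (d i + (p - 2))) := by
      intro k _
      rw [← Finset.prod_zpow]
      apply Finset.prod_congr rfl
      intro i _
      rw [← zpow_mul, pow_add, mul_assoc]
    rw [Finset.prod_congr rfl h2, Finset.prod_comm]
    apply Finset.prod_congr rfl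
    intro i _
    rw [hpvdm_zpow_sum, Finset.mul_sum]
  -- evaluate each factor
  have hfac : ∀ i ∈ s, c i ^ (e i * ∑ k ∈ Finset.Ico 1 p, ((k : ℤ)) ^ (d i + (p - 2)))
      = if d i = 1 then (c i ^ e i)⁻¹ else 1 := by
    intro i hi
    by_cases hbad : d i = 0 ∨ p ≤ d i
    · have hc := hd i hi hbad
      have hne : d i ≠ 1 := by
        rcases hbad with h | h
        · omega
        · omega
      rw [if_neg hne, hc, one_zpow]
    · push_neg at hbad
      obtain ⟨h0, hlt⟩ := hbad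
      by_cases h1 : d i = 1
      · rw [if_pos h1, h1]
        have hm : (p - 1) ∣ (1 + (p - 2)) := by
          have : 1 + (p - 2) = p - 1 := by omega
          rw [this]
        obtain ⟨t, ht⟩ := hp_sum_pow_dvd' p (1 + (p - 2)) hm
        have hS : ∑ k ∈ Finset.Ico 1 p, ((k : ℤ)) ^ (1 + (p - 2)) = (p : ℤ) * t - 1 := by
          linarith
        rw [hS, mul_sub, mul_one, zpow_sub, mul_left_comm, hpvdm_zpow_mul_p p hA, one_mul]
      · rw [if_neg h1]
        have hm : ¬ (p - 1) ∣ (d i + (p - 2)) := by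
          rintro ⟨q, hq⟩
          have hq1 : 1 < q := by
            by_contra hcon
            have : q = 0 ∨ q = 1 := by omega
            rcases this with rfl | rfl
            · omega
            · omega
          have : (p - 1) * 2 ≤ (p - 1) * q := Nat.mul_le_mul_left _ hq1
          omega
        obtain ⟨t, ht⟩ := hp_sum_pow_dvd p (d i + (p - 2)) hm
        rw [ht, mul_left_comm, hpvdm_zpow_mul_p p hA]
  rw [Finset.prod_congr rfl hfac, ← Finset.prod_filter, Finset.prod_inv_distrib, inv_eq_one] at key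
  exact key

end Cfsg.Agent.Helper21.MC
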