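import Mathlib
import Cfsg.Agent.Lib.HP.HPDefs
import Cfsg.Agent.Lib.HP.HPCent
import Cfsg.Agent.Lib.HP.HPUniv
import Cfsg.Agent.Lib.HP.HPMulti
import Cfsg.Agent.Lib.HP.HPDeg
import Cfsg.Agent.Lib.HP.HPSum
import Cfsg.Agent.Lib.HP.HPVdm
import Cfsg.Agent.Lib.HP.HPMain

/-!
# HP farm (helper14), PIECE HP-ENGEL  [H]  (proved by helper14)

A group of exponent `p` with `K G (p+1) = ⊥` satisfies the `(p-1)`-Engel identity `[y, x; p-1] = 1`.
Recipe: for `k ∈ Ico 1 p`: `hp_univ` at `(x, y ^ k)` has left side `1` (all `p`-th powers are `1`) and right side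
`∏_w (lncw x y w ^ k ^ count w) ^ hpExp p w` (`hp_scale` with `n = p`).  Transport to the commutative group `A := Subgroup.center G`
(`hp_prod_center`, or define `c w : A` by `if h : lncw x y w ∈ center then ⟨_, h⟩ else 1`; all `lncw x y w`, `|w| = p`, are central by
`lncw_mem` + `K_le_center_of_succ_eq_bot`), turn the list product over `allWords p` into a `Finset` product over `(allWords p).toFinset`
(`List.prod_toFinset`, `allWords_nodup`), and apply `hp_vdm` with `d w := w.count true`, `e := hpExp p`: `hd` holds by `hp_deg_le_one`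
(count `0`; such a word is neither `wordY p` nor `wordXY p` by `wordY_count`) and `hp_deg_full` (count `≥ p = length`, `List.count_le_length`).
The conclusion `∏_{count w = 1} c w ^ e w = 1` has only two nontrivial factors (`hp_deg_le_one`, `hp_wordY`, `hp_wordXY`): `E ^ hpE p = 1`.
Finally `E ^ p = 1` and `hpE_not_dvd` give `E = 1` (Bezout: `Int.gcd_eq_gcd_ab` / `IsCoprime`, or `orderOf_dvd_iff_zpow_eq_one` with
`orderOf E ∣ p`).
Aux names prefixed `hpengel_`; keep names/statements/namespace; no sorry; scan; land; mark done.
-/

set_option autoImplicit false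

namespace Cfsg.Agent.Helper21.MC

open scoped commutatorElement
open scoped IsMulCommutative

/-- the value of a word, as an element of the centre (trivial if the value is not central) -/
noncomputable def hpengel_c {G : Type*} [Group G] (x y : G) (w : List Bool) : Subgroup.center G := by
  classical
  exact if h : lncw x y w ∈ Subgroup.center G then ⟨lncw x y w, h⟩ else 1

theorem hpengel_c_val {G : Type*} [Group G] (x y : G) (w : List Bool)
    (h : lncw x y w ∈ Subgroup.center G) : ((hpengel_c x y w : Subgroup.center G) : G) = lncw x y w := by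
  unfold hpengel_c
  rw [dif_pos h]

theorem hp_engel_pow {G : Type*} [Group G] (p : ℕ) [Fact p.Prime] (h1 : K G (p + 1) = ⊥)
    (hexp : ∀ g : G, g ^ p = 1) (x y : G) : iterComm y x (p - 1) ^ hpE p = 1 := by
  classical
  have hp : p.Prime := Fact.out
  have hp2 : 2 ≤ p := hp.two_le
  have h2 : ∀ c ∈ K G 2, c ^ p = 1 := fun c _ => hexp c
  have hcen : ∀ w : List Bool, w.length = p → lncw x y w ∈ Subgroup.center G := by
    intro w hw
    have := lncw_mem x y w (by omega)
    rw [hw] at this
    exact K_le_center_of_succ_eq_bot p (by omega) h1 this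
  have hA : ∀ a : Subgroup.center G, a ^ p = 1 := by
    intro a
    apply Subtype.ext
    simp [hexp]
  -- the degree hypothesis
  have hd : ∀ w ∈ (allWords p).toFinset, (w.count true = 0 ∨ p ≤ w.count true) → hpengel_c x y w = 1 := by
    intro w hw hdeg
    have hlen : w.length = p := (mem_allWords p w).1 (List.mem_toFinset.1 hw)
    have hval : lncw x y w = 1 := by
      rcases hdeg with h0 | hfull
      · refine hp_deg_le_one x y p hp2 w hlen (by omega) ?_ ?_
        · intro h; have := wordY_count p; rw [← h] at this; omega
        · intro h; have := wordXY_count p; rw [← h] at this; omega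
      · have hle : w.count true ≤ w.length := List.count_le_length
        exact hp_deg_full x y w (by omega) (by omega)
    apply Subtype.ext
    rw [hpengel_c_val x y w (hcen w hlen), hval]
    rfl
  -- the identities for `k = 1, …, p - 1`
  have hk : ∀ k ∈ Finset.Ico 1 p, ∏ w ∈ (allWords p).toFinset,
      hpengel_c x y w ^ (hpExp p w * ((k : ℤ)) ^ (w.count true)) = 1 := by
    intro k _
    have hu := hp_univ p h1 h2 x (y ^ k)
    have hl : (y ^ k)⁻¹ ^ p * x⁻¹ ^ p * (x * y ^ k) ^ p = 1 := by
      rw [hexp, hexp, hexp, one_mul, one_mul]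
    rw [hl] at hu
    rw [List.prod_toFinset _ (allWords_nodup p)]
    apply Subtype.ext
    rw [Subgroup.coe_one, hu]
    rw [← Subgroup.coe_subtype, map_list_prod, List.map_map]
    congr 1
    apply List.map_congr_left
    intro w hw
    have hlen : w.length = p := (mem_allWords p w).1 hw
    simp only [Function.comp_apply, Subgroup.coe_subtype, Subgroup.coe_zpow]
    rw [hpengel_c_val x y w (hcen w hlen), hp_scale p (by omega) h1 x y k w hlen]
    rw [← zpow_natCast, ← zpow_mul, Nat.cast_pow, mul_comm]
  have hv := hp_vdm p hA (allWords p).toFinset (hpengel_c x y) (fun w => w.count true) (hpExp p) hd hk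
  -- only `wordY p` and `wordXY p` contribute
  have hwY : wordY p ∈ (allWords p).toFinset.filter (fun w => w.count true = 1) := by
    rw [Finset.mem_filter, List.mem_toFinset, mem_allWords]
    exact ⟨wordY_length p (by omega), wordY_count p⟩
  have hwXY : wordXY p ∈ (allWords p).toFinset.filter (fun w => w.count true = 1) := by
    rw [Finset.mem_filter, List.mem_toFinset, mem_allWords]
    exact ⟨wordXY_length p hp2, wordXY_count p⟩
  have hprod := Finset.prod_eq_mul (s := (allWords p).toFinset.filter (fun w => w.count true = 1))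
    (f := fun w => hpengel_c x y w ^ hpExp p w) (wordY p) (wordXY p) (wordY_ne_wordXY p)
    (by
      intro w hw hne
      rw [Finset.mem_filter, List.mem_toFinset, mem_allWords] at hw
      have hval : lncw x y w = 1 := hp_deg_le_one x y p hp2 w hw.1 (by omega) hne.1 hne.2
      have : hpengel_c x y w = 1 := by
        apply Subtype.ext
        rw [hpengel_c_val x y w (hcen w hw.1), hval]
        rfl
      show hpengel_c x y w ^ hpExp p w = 1
      rw [this, one_zpow])
    (fun h => absurd hwY h) (fun h => absurd hwXY h)
  rw [hprod] at hv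
  have hv' := congrArg (fun a : Subgroup.center G => (a : G)) hv
  simp only [Subgroup.coe_mul, Subgroup.coe_zpow, Subgroup.coe_one] at hv'
  rw [hpengel_c_val x y _ (hcen _ (wordY_length p (by omega))),
    hpengel_c_val x y _ (hcen _ (wordXY_length p hp2)), hp_wordY x y p (by omega),
    hp_wordXY x y p hp2 h1, inv_zpow, ← zpow_sub] at hv'
  exact hv'

theorem hp_engel {G : Type*} [Group G] (p : ℕ) [Fact p.Prime] (h1 : K G (p + 1) = ⊥)
    (hexp : ∀ g : G, g ^ p = 1) (x y : G) : iterComm y x (p - 1) = 1 := by
  have hp : p.Prime := Fact.out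
  have h := hp_engel_pow p h1 hexp x y
  have hd : orderOf (iterComm y x (p - 1)) ∣ p := orderOf_dvd_of_pow_eq_one (hexp _)
  rcases (Nat.dvd_prime hp).1 hd with h1' | hp'
  · exact orderOf_eq_one_iff.1 h1'
  · exfalso
    have := orderOf_dvd_iff_zpow_eq_one.2 h
    rw [hp'] at this
    exact hpE_not_dvd p this

end Cfsg.Agent.Helper21.MC
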