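import Mathlib
import Cfsg.Agent.Lib.HP.HPDefs
import Cfsg.Agent.Lib.HP.HPMain

/-!
# HP farm (helper14), HP-LEVEL: the anchor in the form used for groups of maximal class (helper14)

If `y` centralizes `K_i / K_{i+2}` for `2 ≤ i ≤ p - 1` (`InM G i y`) and `K G (p+1) = ⊥`, every left-normed commutator of weight `p`
in `x, y` with at least two letters `y` is trivial (level counting), so `hp_formula` becomes
`(y⁻¹)^p (x⁻¹)^p (xy)^p = [y, x; p-1] ^ hpE p`.
-/

set_option autoImplicit false

namespace Cfsg.Agent.Helper21.MC

open scoped commutatorElement

variable {G : Type*} [Group G]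

/-- level of the value of a word: one extra level for a letter `y` at a position `≥ 3` -/
theorem hplevel_aux (p : ℕ) (x y : G) (hy : ∀ i, 2 ≤ i → i + 1 ≤ p → InM G i y) :
    ∀ w : List Bool, 1 ≤ w.length → w.length ≤ p →
      lncw x y w ∈ K G (w.length + if true ∈ w.drop 2 then 1 else 0) := by
  intro w
  induction w using List.reverseRecOn with
  | nil => intro h; simp at h
  | append_singleton w b ih =>
    intro _ hp
    rw [List.length_append, List.length_singleton] at hp
    rcases Nat.eq_zero_or_pos w.length with h0 | hpos
    · -- `w = []`
      have hw : w = [] := List.length_eq_zero_iff.1 h0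
      subst hw
      have : K G 1 = ⊤ := K_one
      simp [this]
    · have hne : w ≠ [] := by
        intro h; rw [h] at hpos; simp at hpos
      rw [lncw_append_singleton x y w hne b]
      have hc := ih hpos (by omega)
      rw [List.length_append, List.length_singleton]
      by_cases h1 : w.length = 1
      · -- drop 2 of a word of length 2 is empty
        have hd : (w ++ [b]).drop 2 = [] := by
          apply List.drop_eq_nil_of_le
          rw [List.length_append, List.length_singleton]; omega
        rw [hd]
        simp only [List.not_mem_nil, if_false, Nat.add_zero]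
        have hc' : lncw x y w ∈ K G w.length :=
          K_antitone (Nat.le_add_right _ _) hc
        exact comm_mem_succ hpos hc' _
      · have h2 : 2 ≤ w.length := by omega
        have hd : (w ++ [b]).drop 2 = w.drop 2 ++ [b] := by
          rw [List.drop_append_of_le_length h2]
        rw [hd]
        by_cases hb : true ∈ w.drop 2
        · have : true ∈ w.drop 2 ++ [b] := List.mem_append_left _ hb
          rw [if_pos this]
          rw [if_pos hb] at hc
          have := comm_mem_succ (i := w.length + 1) (by omega) hc (letter x y b)
          rwa [show w.length + 1 + 1 = w.length + 1 + 1 from rfl] at this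
        · rw [if_neg hb, Nat.add_zero] at hc
          cases b with
          | true =>
            have : true ∈ w.drop 2 ++ [true] := List.mem_append_right _ (List.mem_singleton.2 rfl)
            rw [if_pos this]
            have hin := hy w.length h2 (by omega)
            have := hin _ hc
            simpa [letter] using this
          | false =>
            have : true ∉ w.drop 2 ++ [false] := by
              intro h
              rcases List.mem_append.1 h with h | h
              · exact hb h
              · simp at h
            rw [if_neg this, Nat.add_zero]
            exact comm_mem_succ hpos hc _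

/-- level counting: words of length `p` with two letters `y` are trivial -/
theorem hp_level (p : ℕ) (h1 : K G (p + 1) = ⊥) (x y : G)
    (hy : ∀ i, 2 ≤ i → i + 1 ≤ p → InM G i y) (w : List Bool) (hw : w.length = p)
    (hc : 2 ≤ w.count true) : lncw x y w = 1 := by
  by_cases hd : true ∈ w.drop 2
  · have hp1 : 1 ≤ w.length := by
      rcases w with _ | ⟨a, t⟩
      · simp at hd
      · simp
    have := hplevel_aux p x y hy w hp1 (le_of_eq hw)
    rw [if_pos hd, hw, h1, Subgroup.mem_bot] at this
    exact this
  · -- both letters `y` are among the first two letters
    rcases w with _ | ⟨a, _ | ⟨b, t⟩⟩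
    · simp at hc
    · simp only [List.count_cons, List.count_nil] at hc
      split_ifs at hc <;> omega
    · have ht : true ∉ t := by simpa using hd
      have hct : t.count true = 0 := List.count_eq_zero_of_not_mem ht
      cases a <;> cases b
      · exfalso; simp [hct] at hc
      · exfalso; simp [hct] at hc
      · exfalso; simp [hct] at hc
      · exact lncw_eq_one_of_head x y true t

/-- THE ANCHOR: the exact top term when `y` lies in the two-step centralizers `M_2, …, M_{p-1}` -/
theorem hp_anchor (p : ℕ) [Fact p.Prime] (h1 : K G (p + 1) = ⊥) (h2 : ∀ c ∈ K G 2, c ^ p = 1) (x y : G)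
    (hy : ∀ i, 2 ≤ i → i + 1 ≤ p → InM G i y) :
    (y⁻¹) ^ p * (x⁻¹) ^ p * (x * y) ^ p = iterComm y x (p - 1) ^ hpE p := by
  obtain ⟨R, hR, h⟩ := hp_formula p h1 h2 x y
  have hR1 : R = 1 := by
    have hle : Subgroup.closure {g | ∃ w : List Bool, w.length = p ∧ 2 ≤ w.count true ∧ g = lncw x y w} ≤
        (⊥ : Subgroup G) := by
      rw [Subgroup.closure_le]
      rintro g ⟨w, hw, hc, rfl⟩
      exact Subgroup.mem_bot.2 (hp_level p h1 x y hy w hw hc)
    exact Subgroup.mem_bot.1 (hle hR)
  rw [h, hR1, mul_one]

end Cfsg.Agent.Helper21.MC
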