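import Mathlib
import Cfsg.Agent.Lib.Helper21.PolySeq
import Cfsg.Agent.Lib.HP.HPBase

set_option autoImplicit false

/-! PIECE HP-SHIFT (S4144/S5238). Filtrations with degree of commutativity `≥ 1` and the shifted
filtration. PROOFS.
* `Filt.c0`: if `i = 0` replace `F 0` by `F 1` (`h01`); for `i, j ≥ 1` use `c1` and antitone
  (`i + j ≤ i + j + 1`). For `i = 0` (resp. `j = 0`): `⁅F 1, F j⁆ ≤ F (1 + j + 1) ≤ F (0 + j)`; for `i = j = 0`:
  `⁅F 1, F 1⁆ ≤ F 3 ≤ F 0`.
* `shiftF_c0`: `shiftF F i = F (i - 1)`; put `a = max (i-1) 1`, `b = max (j-1) 1`; `F (i-1) = F a` (by `h01` when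
  `i - 1 = 0`), `⁅F a, F b⁆ ≤ F (a + b + 1) ≤ F (i + j - 1)` since `i + j - 1 ≤ a + b + 1`.
* `isPoly_shift_iff`: induction on `r` generalizing `k g`; `shiftF F (k+1) = F k` is `rfl`/`simp [shiftF]`.
* `comm_deep`: `(good (shiftF_antitone hF) (shiftF_c0 hF) r).comm (k+1) (l+1) g h` applied to the shifted versions
  (via `isPoly_shift_iff`), giving `IsPoly (shiftF F) r (k+1+(l+1)) ⁅g,h⁆`, and `k+1+(l+1) = (k+l+1)+1`. -/

namespace Cfsg.Agent.Helper10.HP

open scoped commutatorElement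
open Cfsg.Agent.Helper21.PolySeq

variable {G : Type*} [Group G] {F : ℕ → Subgroup G}

/-- A filtration with `F 0 = F 1` and degree of commutativity at least `1`. -/
structure Filt (F : ℕ → Subgroup G) : Prop where
  anti : Antitone F
  h01 : F 0 = F 1
  c1 : ∀ i j, 1 ≤ i → 1 ≤ j → ⁅F i, F j⁆ ≤ F (i + j + 1)

/-- The shifted filtration `F' i = F (i - 1)`. -/
def shiftF (F : ℕ → Subgroup G) (i : ℕ) : Subgroup G := F (i - 1)

theorem hpshift_F_max (hF : Filt F) (i : ℕ) : F i = F (max i 1) := by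
  rcases Nat.eq_zero_or_pos i with h | h
  · subst h
    rw [hF.h01]
    rfl
  · rw [max_eq_left h]

theorem hpshift_comm_le (hF : Filt F) (i j m : ℕ) (hm : m ≤ max i 1 + max j 1 + 1) :
    ⁅F i, F j⁆ ≤ F m := by
  rw [hpshift_F_max hF i, hpshift_F_max hF j]
  exact le_trans (hF.c1 _ _ (le_max_right _ _) (le_max_right _ _)) (hF.anti hm)

theorem Filt.c0 (hF : Filt F) (i j : ℕ) : ⁅F i, F j⁆ ≤ F (i + j) := by
  apply hpshift_comm_le hF
  have h1 : i ≤ max i 1 := le_max_left _ _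
  have h2 : j ≤ max j 1 := le_max_left _ _
  omega

theorem shiftF_antitone (hF : Filt F) : Antitone (shiftF F) := by
  intro i j hij
  unfold shiftF
  exact hF.anti (by omega)

theorem shiftF_c0 (hF : Filt F) (i j : ℕ) : ⁅shiftF F i, shiftF F j⁆ ≤ shiftF F (i + j) := by
  unfold shiftF
  apply hpshift_comm_le hF
  have h1 : i - 1 ≤ max (i - 1) 1 := le_max_left _ _
  have h2 : j - 1 ≤ max (j - 1) 1 := le_max_left _ _
  omega

theorem isPoly_shift_iff : ∀ (r k : ℕ) (g : ℕ → G),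
    IsPoly (shiftF F) r (k + 1) g ↔ IsPoly F r k g := by
  intro r
  induction r with
  | zero =>
    intro k g
    exact Iff.rfl
  | succ r ih =>
    intro k g
    constructor
    · intro h
      exact ⟨h.1, (ih (k + 1) (D g)).1 h.2⟩
    · intro h
      exact ⟨h.1, (ih (k + 1) (D g)).2 h.2⟩

theorem good_F (hF : Filt F) (r : ℕ) : Good F r := good hF.anti hF.c0 r

/-- Commutators of polynomial sequences are one level deeper than for a general filtration. -/
theorem comm_deep (hF : Filt F) {r k l : ℕ} {g h : ℕ → G} (hg : IsPoly F r k g)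
    (hh : IsPoly F r l h) : IsPoly F r (k + l + 1) ⁅g, h⁆ := by
  have hg' := (isPoly_shift_iff r k g).2 hg
  have hh' := (isPoly_shift_iff r l h).2 hh
  have H := (good (shiftF_antitone hF) (shiftF_c0 hF) r).comm (k + 1) (l + 1) g h hg' hh'
  rw [show k + 1 + (l + 1) = (k + l + 1) + 1 by omega] at H
  exact (isPoly_shift_iff r (k + l + 1) _).1 H

end Cfsg.Agent.Helper10.HP
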