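import Mathlib
import Cfsg.Agent.Lib.Helper21.PolySeq
import Cfsg.Agent.Lib.HP.HPBase
import Cfsg.Agent.Lib.HP.HPShift

set_option autoImplicit false

/-! PIECE HP-MUL (S4144/S5238). The top iterated difference is multiplicative. PROOFS.
* `iterate_D_mul`: induction on `j`. `j = 0`: `E = 1` (`isPoly_one`). Step: write `A = D^[j] g`, `B = D^[j] h`
  (both `IsPoly F r j` for every `r`, by `isPoly_iterate` from `hg (r + j)` and `0 + j = j`), `E` at level `j+1`.
  `D^[j+1] (g*h) = D (A * B * E)` (`Function.iterate_succ_apply'`). By `D_mul` twice: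
  `D (A*B*E) = D A * ⁅A, D B⁆ * D B * ⁅A*B, D E⁆ * D E = D A * D B * E'` with
  `E' = (D B)⁻¹ * ⁅A, D B⁆ * D B * ⁅A*B, D E⁆ * D E` (check with `group` after `funext n; simp [D_mul ..]`, or prove the
  pointwise identity by `simp only [D, Pi.mul_apply, commutatorElement_def, Pi.inv_apply]; group`).
  Levels (for every `r`; use `hX (r+1)` and `.2` to get `D X` at level+1 to order `r`):
  `D B` level `j+1`; `⁅A, D B⁆` level `j + (j+1) + 1 ≥ j+2` by `comm_deep` then `IsPoly.mono`;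
  conjugate by `(D B)⁻¹`: `Good.conj` (with `good_F`) applied to `g := (D B)⁻¹` — or write
  `(D B)⁻¹ * u * D B = ⁅(D B)⁻¹, u⁆ * u`; `⁅A*B, D E⁆` level `j + (j+2) ≥ j+2` by `(good_F hF r).comm` + mono;
  `D E` level `j+2`. Products by `(good_F hF r).mul`.
* `top_mul`: from `iterate_D_mul` at `j = m`: `E 0 ∈ F (m+1) = ⊥` (`IsPoly.mem` with `r = 0`).
* `top_inv`: `top_mul` for `g * g⁻¹ = 1`, `iterate_D_one`, `Poly.inv hF.anti hF.c0`. -/

namespace Cfsg.Agent.Helper10.HP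

open scoped commutatorElement
open Cfsg.Agent.Helper21.PolySeq

variable {G : Type*} [Group G] {F : ℕ → Subgroup G}

theorem iterate_D_mul (hF : Filt F) {g h : ℕ → G} (hg : Poly F g) (hh : Poly F h) :
    ∀ j, ∃ E : ℕ → G, (∀ r, IsPoly F r (j + 1) E) ∧
      D^[j] (g * h) = D^[j] g * D^[j] h * E := by
  intro j
  induction j with
  | zero =>
    refine ⟨1, fun r => isPoly_one r 1, ?_⟩
    simp
  | succ j ih =>
    obtain ⟨E, hE, heq⟩ := ih
    have hA : ∀ r, IsPoly F r j (D^[j] g) := by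
      intro r
      have := isPoly_iterate (F := F) j r 0 g (hg (r + j))
      rwa [Nat.zero_add] at this
    have hB : ∀ r, IsPoly F r j (D^[j] h) := by
      intro r
      have := isPoly_iterate (F := F) j r 0 h (hh (r + j))
      rwa [Nat.zero_add] at this
    have hDB : ∀ r, IsPoly F r (j + 1) (D (D^[j] h)) := fun r => (hB (r + 1)).2
    have hDE : ∀ r, IsPoly F r (j + 2) (D E) := fun r => (hE (r + 1)).2
    refine ⟨((D (D^[j] h))⁻¹ * ⁅D^[j] g, D (D^[j] h)⁆ * ((D (D^[j] h))⁻¹)⁻¹) *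
      ⁅D^[j] g * D^[j] h, D E⁆ * D E, ?_, ?_⟩
    · intro r
      have hG := good_F hF r
      have h1 : IsPoly F r (j + 2) ⁅D^[j] g, D (D^[j] h)⁆ :=
        (comm_deep hF (hA r) (hDB r)).mono hF.anti (by omega)
      have h2 : IsPoly F r (j + 1) (D (D^[j] h))⁻¹ := hG.inv _ _ (hDB r)
      have h3 : IsPoly F r (j + 2)
          ((D (D^[j] h))⁻¹ * ⁅D^[j] g, D (D^[j] h)⁆ * ((D (D^[j] h))⁻¹)⁻¹) :=
        Good.conj hF.anti hG h2 h1
      have h4 : IsPoly F r (j + 2) ⁅D^[j] g * D^[j] h, D E⁆ :=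
        (hG.comm _ _ _ _ (hG.mul _ _ _ (hA r) (hB r)) (hDE r)).mono hF.anti (by omega)
      exact hG.mul _ _ _ (hG.mul _ _ _ h3 h4) (hDE r)
    · rw [Function.iterate_succ_apply', Function.iterate_succ_apply',
        Function.iterate_succ_apply', heq]
      funext n
      simp only [D, Pi.mul_apply, commutatorElement_def, Pi.inv_apply]
      group

theorem top_mul (hF : Filt F) {m : ℕ} (hm : F (m + 1) = ⊥) {g h : ℕ → G} (hg : Poly F g)
    (hh : Poly F h) : (D^[m] (g * h)) 0 = (D^[m] g) 0 * (D^[m] h) 0 := by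
  obtain ⟨E, hE, heq⟩ := iterate_D_mul hF hg hh m
  have h0 : E 0 ∈ F (m + 1) := (hE 0).mem 0
  rw [hm, Subgroup.mem_bot] at h0
  rw [heq, Pi.mul_apply, Pi.mul_apply, h0, mul_one]

theorem top_inv (hF : Filt F) {m : ℕ} (hm : F (m + 1) = ⊥) {g : ℕ → G} (hg : Poly F g) :
    (D^[m] g⁻¹) 0 = ((D^[m] g) 0)⁻¹ := by
  have h1 := top_mul hF hm hg (Poly.inv hF.anti hF.c0 hg)
  rw [mul_inv_cancel, iterate_D_one, Pi.one_apply] at h1
  exact (eq_inv_of_mul_eq_one_right h1.symm)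

end Cfsg.Agent.Helper10.HP
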