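import Mathlib
import Cfsg.Agent.Lib.HP.HPEngel
import Cfsg.Agent.Lib.MC.MCUnif
import Cfsg.Agent.Lib.MC4.MC4ECNM

/-!
# HP farm (helper14): a `p`-group of maximal class of order `p ^ (p+1)` (`p` odd) is not of exponent `p`

Exceptional groups included: if `g ^ p = 1` for all `g`, the `(p-1)`-Engel identity `hp_engel` gives `[y, s; p-1] = 1`, but for a
uniform element `s` and `y ∈ M_2 ∖ K_2` the iterated commutator `[y, s; m]` lies in `K (m+1) ∖ K (m+2)` for `1 ≤ m ≤ p - 1`.
-/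

set_option autoImplicit false

namespace Cfsg.Agent.Helper21.MC

open scoped commutatorElement

variable {Y : Type*} [Group Y] [Finite Y] {p : ℕ} [Fact p.Prime]

/-- the chain `[y, s; m] ∈ K (m+1) ∖ K (m+2)` for a uniform element `s` -/
theorem hpnotexp_chain {n : ℕ} (hn : 4 ≤ n) (hY : IsMC p n Y) {s : Y} (hs : IsUniform n Y s) {y : Y}
    (hy : ⁅y, s⁆ ∉ K Y 3) : ∀ m, 1 ≤ m → m + 2 ≤ n →
      iterComm y s m ∈ K Y (m + 1) ∧ iterComm y s m ∉ K Y (m + 2) := by
  intro m
  induction m with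
  | zero => intro h; omega
  | succ m ih =>
    intro _ hmn
    rcases Nat.eq_zero_or_pos m with h0 | hpos
    · subst h0
      have hy1 : y ∈ K Y 1 := by rw [K_one]; exact Subgroup.mem_top y
      exact ⟨comm_mem_succ le_rfl hy1 s, hy⟩
    · obtain ⟨h1, h2⟩ := ih hpos (by omega)
      refine ⟨comm_mem_succ (by omega) h1 s, ?_⟩
      exact uniform_comm hn hY hs (i := m + 1) (by omega) (by omega) h1 h2

theorem hp_mc_not_exp_p (hY : IsMC p (p + 1) Y) (hp : p ≠ 2) : ∃ g : Y, g ^ p ≠ 1 := by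
  by_contra hcon0
  have hcon : ∀ g : Y, g ^ p = 1 := by
    intro g
    by_contra h
    exact hcon0 ⟨g, h⟩
  have hpp : p.Prime := Fact.out
  have hp3 : 3 ≤ p := by
    have := hpp.two_le
    omega
  have hn4 : 4 ≤ p + 1 := by omega
  have hn3 : 3 ≤ p + 1 := by omega
  obtain ⟨s, hs⟩ := exists_uniform hn4 hY hp (by omega)
  obtain ⟨H, hH, hi, hK⟩ := exists_M (i := 2) hn3 hY le_rfl (by omega)
  have hsH : s ∉ H := by
    rw [hH]
    exact hs 2 le_rfl (by omega)
  -- an element of `H` outside `K 2`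
  have hlt : ∃ y, y ∈ H ∧ y ∉ K Y 2 := by
    by_contra hno
    have hle : H ≤ K Y 2 := by
      intro y hy
      by_contra h
      exact hno ⟨y, hy, h⟩
    have heq : H = K Y 2 := le_antisymm hle hK
    have h2 := index_K_two hn3 hY
    rw [← heq, hi] at h2
    have : p ^ 1 = p ^ 2 := by rw [pow_one]; exact h2
    have := Nat.pow_right_injective hpp.two_le this
    omega
  obtain ⟨y, hyH, hyK⟩ := hlt
  have hsy : ⁅s, y⁆ ∉ K Y 3 := mc4e_comm_not_mem hn3 hY H hK hi hyH hyK hsH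
  have hys : ⁅y, s⁆ ∉ K Y 3 := by
    intro h
    apply hsy
    rw [comm_swap y s]
    exact inv_mem h
  have hchain := hpnotexp_chain hn4 hY hs hys (p - 1) (by omega) (by omega)
  have hbot : K Y (p + 1) = ⊥ := K_eq_bot hn3 hY (p + 1) le_rfl
  have hE := hp_engel p hbot hcon s y
  apply hchain.2
  have e : p - 1 + 2 = p + 1 := by omega
  rw [e, hbot, Subgroup.mem_bot]
  exact hE

end Cfsg.Agent.Helper21.MC
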