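import Mathlib
import Cfsg.Agent.Lib.Helper21.PolySeq
import Cfsg.Agent.Lib.HP.HPBase
import Cfsg.Agent.Lib.HP.HPShift
import Cfsg.Agent.Lib.HP.HPMul

set_option autoImplicit false

/-! PIECE HP-PEEL (S4144/S5238). Peeling Taylor coefficients while keeping the top term. PROOF: copy the
structure of `PolySeq.peel` (induction on `d`).
* `d = 0`: `j = p`, `(D^[p] g) 0 = g p` by `iterate_D_zero p g hv`, so the element is `1`.
* step: `x := g j ∈ F j` (as in `peel`: `iterate_mem` + `iterate_D_zero`), `e n := x ^ n.choose j`, `Poly F e`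
  (`isPoly_choose hF.anti r j 0 x hx`), `g' := g * e⁻¹` is `Poly` (`Poly.mul`, `Poly.inv` with `hF.anti hF.c0`) and vanishes
  below `j+1` (as in `peel`). IH: `((D^[p] g') 0)⁻¹ * g' p ∈ M`. By `top_mul`, `top_inv` (with `hm := hFp`) and
  `iterate_D_choose_gt x p j (j < p)`: `(D^[p] g') 0 = (D^[p] g) 0`. And `g' p = g p * (x ^ p.choose j)⁻¹`, so
  `((D^[p] g) 0)⁻¹ * g p = (((D^[p] g') 0)⁻¹ * g' p) * x ^ p.choose j`; `p ∣ p.choose j` (`hp.dvd_choose_self`), so
  `x ^ p.choose j = (x ^ m) ^ p ∈ M` by `hM` (`x ^ m ∈ F j ≤ F 2`). -/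

namespace Cfsg.Agent.Helper10.HP

open scoped commutatorElement
open Cfsg.Agent.Helper21.PolySeq

variable {G : Type*} [Group G] {F : ℕ → Subgroup G}

theorem peel_top (hF : Filt F) {p : ℕ} (hp : p.Prime) (hFp : F (p + 1) = ⊥) (M : Subgroup G)
    (hM : ∀ x ∈ F 2, x ^ p ∈ M) :
    ∀ (d j : ℕ), j + d = p → 2 ≤ j → ∀ g : ℕ → G, Poly F g → (∀ i, i < j → g i = 1) →
      ((D^[p] g) 0)⁻¹ * g p ∈ M := by
  intro d
  induction d with
  | zero =>
    intro j hj _ g _ hv
    obtain rfl : j = p := by omega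
    rw [iterate_D_zero j g hv, inv_mul_cancel]
    exact one_mem _
  | succ d ih =>
    intro j hj hj2 g hg hv
    have hx : g j ∈ F j := by
      have h1 := (hg j).iterate_mem j le_rfl 0
      rwa [iterate_D_zero j g hv, Nat.add_zero] at h1
    set x := g j with hxdef
    set e : ℕ → G := fun n => x ^ (n.choose j) with hedef
    have he : Poly F e := fun r => isPoly_choose hF.anti r j 0 x hx
    have hei : Poly F e⁻¹ := he.inv hF.anti hF.c0
    have hg' : Poly F (g * e⁻¹) := hg.mul hF.anti hF.c0 hei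
    have hv' : ∀ i, i < j + 1 → (g * e⁻¹) i = 1 := by
      intro i hi
      rcases Nat.lt_succ_iff_lt_or_eq.1 hi with h | h
      · simp [hedef, hv i h, Nat.choose_eq_zero_of_lt h]
      · subst h
        simp [hedef, hxdef]
    have h2 := ih (j + 1) (by omega) (by omega) _ hg' hv'
    have hT : (D^[p] (g * e⁻¹)) 0 = (D^[p] g) 0 := by
      rw [top_mul hF hFp hg hei, top_inv hF hFp he]
      have : D^[p] e = 1 := iterate_D_choose_gt x p j (by omega)
      rw [this]
      simp
    rw [hT] at h2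
    have h3 : g p = (g * e⁻¹) p * x ^ (p.choose j) := by
      simp [hedef]
    rw [h3, ← mul_assoc]
    refine mul_mem h2 ?_
    obtain ⟨m, hm⟩ := hp.dvd_choose_self (by omega : j ≠ 0) (by omega : j < p)
    rw [hm, mul_comm, pow_mul]
    exact hM _ (pow_mem (hF.anti hj2 hx) _)

end Cfsg.Agent.Helper10.HP
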