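import Mathlib
import Cfsg.Agent.Lib.Helper21.PolySeq
import Cfsg.Agent.Lib.HP.HPBase

set_option autoImplicit false

/-! PIECE HP-SEQ (S4144/S5238). The sequence `f n = s^-n (s y)^n`. PROOFS.
* `D_fseq`: `f (n+1) * (f n)⁻¹ = s^-(n+1) (s y)^(n+1) (s y)^-n s^n = s^-n y s^n` (`pow_succ`, `group`-like; careful:
  `group` does not know `n` symbolic powers of two different bases commute — rewrite with `pow_succ'`/`pow_succ`
  first so that only cancellation is left, e.g. `(s⁻¹)^(n+1) = (s⁻¹)^n * s⁻¹`, `(s*y)^(n+1) = (s*y) * (s*y)^n`,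
  `((s⁻¹)^n * (s*y)^n)⁻¹ = ((s*y)^n)⁻¹ * ((s⁻¹)^n)⁻¹`, and `((s⁻¹)^n)⁻¹ = s^n` by `inv_pow`, `inv_inv`).
* `D_conj`: `D (fun n => (s⁻¹)^n * w * s^n) = fun n => (s⁻¹)^n * (s⁻¹ * w * s * w⁻¹) * s^n`, same style
  (`(s⁻¹)^n * s^n = 1`: `inv_pow`, `inv_mul_cancel`).
* `iterate_D_fseq`: induction on `j` with `Function.iterate_succ_apply'`, `D_fseq`, `D_conj`.
* `conj_pow_mem`: induction on `n`: `s⁻¹ x s = (s⁻¹ x s x⁻¹) x ∈ F (i+1) ⊔ F i ≤ F i`.
* `yseq_mem`: induction on `j` with `hs`.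
* `poly_fseq`: `isPoly_of_iterate r 0`: for `j = 0`: `f n ∈ F 0`: induction on `n`, `f (n+1) = ((s⁻¹)^n y s^n) * f n`
  (this is `D_fseq`), and `F 0 = F 1`; for `j + 1`: `iterate_D_fseq`, `yseq_mem`, `conj_pow_mem`. -/

namespace Cfsg.Agent.Helper10.HP

open scoped commutatorElement
open Cfsg.Agent.Helper21.PolySeq

variable {G : Type*} [Group G] {F : ℕ → Subgroup G}

/-- `yseq s y j` is the iterated commutator `[s⁻¹, [s⁻¹, ..., y]]` with `j` entries `s⁻¹`. -/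
def yseq (s y : G) : ℕ → G
  | 0 => y
  | j + 1 => s⁻¹ * yseq s y j * s * (yseq s y j)⁻¹

/-- `fseq s y n = s^-n (s y)^n`. -/
def fseq (s y : G) : ℕ → G := fun n => (s⁻¹) ^ n * (s * y) ^ n

theorem fseq_zero (s y : G) : fseq s y 0 = 1 := by
  simp [fseq]

theorem fseq_one (s y : G) : fseq s y 1 = y := by
  simp [fseq]

theorem D_fseq (s y : G) : D (fseq s y) = fun n => (s⁻¹) ^ n * y * s ^ n := by
  funext n
  simp only [D, fseq]
  have hs : s ^ n = ((s⁻¹) ^ n)⁻¹ := by rw [inv_pow, inv_inv]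
  rw [pow_succ (s⁻¹) n, pow_succ' (s * y) n, hs]
  generalize (s⁻¹) ^ n = A
  generalize (s * y) ^ n = B
  group

theorem D_conj (s w : G) : D (fun n => (s⁻¹) ^ n * w * s ^ n) =
    fun n => (s⁻¹) ^ n * (s⁻¹ * w * s * w⁻¹) * s ^ n := by
  funext n
  simp only [D]
  have hs : s ^ n = ((s⁻¹) ^ n)⁻¹ := by rw [inv_pow, inv_inv]
  rw [pow_succ (s⁻¹) n, pow_succ' s n, hs]
  generalize (s⁻¹) ^ n = A
  group

theorem iterate_D_fseq (s y : G) (j : ℕ) :
    D^[j + 1] (fseq s y) = fun n => (s⁻¹) ^ n * yseq s y j * s ^ n := by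
  induction j with
  | zero =>
    rw [zero_add, Function.iterate_one, D_fseq]
    rfl
  | succ j ih =>
    rw [Function.iterate_succ_apply', ih, D_conj]
    rfl

theorem conj_pow_mem (hF : Antitone F) {s : G}
    (hs : ∀ i, ∀ x ∈ F i, s⁻¹ * x * s * x⁻¹ ∈ F (i + 1)) {i : ℕ} {x : G} (hx : x ∈ F i) (n : ℕ) :
    (s⁻¹) ^ n * x * s ^ n ∈ F i := by
  induction n with
  | zero => simpa using hx
  | succ n ih =>
    have h1 : (s⁻¹) ^ (n + 1) * x * s ^ (n + 1) =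
        (s⁻¹ * ((s⁻¹) ^ n * x * s ^ n) * s * ((s⁻¹) ^ n * x * s ^ n)⁻¹) * ((s⁻¹) ^ n * x * s ^ n) := by
      rw [pow_succ' (s⁻¹) n, pow_succ s n]
      group
    rw [h1]
    exact mul_mem (hF (Nat.le_succ i) (hs i _ ih)) ih

theorem yseq_mem {s y : G} (hs : ∀ i, ∀ x ∈ F i, s⁻¹ * x * s * x⁻¹ ∈ F (i + 1)) (hy : y ∈ F 1)
    (j : ℕ) : yseq s y j ∈ F (j + 1) := by
  induction j with
  | zero => exact hy
  | succ j ih => exact hs (j + 1) _ ih

theorem poly_fseq (hF : Antitone F) (h01 : F 0 = F 1) {s y : G}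
    (hs : ∀ i, ∀ x ∈ F i, s⁻¹ * x * s * x⁻¹ ∈ F (i + 1)) (hy : y ∈ F 1) :
    Poly F (fseq s y) := by
  intro r
  apply isPoly_of_iterate r 0 (fseq s y)
  intro j _ n
  rw [Nat.zero_add]
  cases j with
  | zero =>
    rw [Function.iterate_zero, id_eq]
    induction n with
    | zero =>
      rw [fseq_zero]
      exact one_mem _
    | succ n ih =>
      have h1 : fseq s y (n + 1) = D (fseq s y) n * fseq s y n := by
        simp only [D]
        group
      rw [h1, D_fseq]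
      refine mul_mem ?_ ih
      rw [h01]
      exact conj_pow_mem hF hs hy n
  | succ j =>
    rw [iterate_D_fseq]
    exact conj_pow_mem hF hs (yseq_mem hs hy j) n

end Cfsg.Agent.Helper10.HP
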