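import Mathlib
import Cfsg.Agent.Lib.Helper21.PolySeq
import Cfsg.Agent.Lib.HP.HPBase
import Cfsg.Agent.Lib.HP.HPShift
import Cfsg.Agent.Lib.HP.HPMul
import Cfsg.Agent.Lib.HP.HPPeel
import Cfsg.Agent.Lib.HP.HPSeq

set_option autoImplicit false

/-! PIECE HP-TOP (S4144/S5238; done by helper15). The exact top Hall–Petrescu term for a filtration with degree of
commutativity `≥ 1`:  `(s y)^p = s^p * y_p * w * y^p`, `w` a product of `p`-th powers of elements of `F 2`,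
`y_p = yseq s y (p-1)` the `(p-1)`-fold commutator of `y` with `s⁻¹`.
PROOF. `f := fseq s y`, `e n := y ^ n` (`= y ^ n.choose 1`), `g' := f * e⁻¹`: `Poly` (`poly_fseq`, `poly_pow hF.anti hy`,
`Poly.mul/inv`), `g' 0 = 1`, `g' 1 = 1` (`fseq_zero`, `fseq_one`). `peel_top hF hp hFp M hM (p-2) 2 _ le_rfl g' _ _` gives
`((D^[p] g') 0)⁻¹ * g' p ∈ M`. `(D^[p] g') 0 = (D^[p] f) 0 * ((D^[p] e) 0)⁻¹` (`top_mul`, `top_inv`), `(D^[p] e) 0 = 1`
(`iterate_D_choose_gt y p 1` after `Nat.choose_one_right`), `(D^[p] f) 0 = yseq s y (p-1)` (`iterate_D_fseq` with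
`p = (p-1)+1`, `pow_zero`). `g' p = (s⁻¹)^p * (s*y)^p * (y^p)⁻¹`. -/

namespace Cfsg.Agent.Helper10.HP

open scoped commutatorElement
open Cfsg.Agent.Helper21.PolySeq

variable {G : Type*} [Group G] {F : ℕ → Subgroup G}

theorem hp_top (hF : Filt F) {p : ℕ} (hp : p.Prime) (hFp : F (p + 1) = ⊥) (M : Subgroup G)
    (hM : ∀ x ∈ F 2, x ^ p ∈ M) {s y : G}
    (hs : ∀ i, ∀ x ∈ F i, s⁻¹ * x * s * x⁻¹ ∈ F (i + 1)) (hy : y ∈ F 1) :
    (yseq s y (p - 1))⁻¹ * ((s⁻¹) ^ p * (s * y) ^ p) * (y ^ p)⁻¹ ∈ M := by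
  have hp2 := hp.two_le
  have hpf : Poly F (fseq s y) := poly_fseq hF.anti hF.h01 hs hy
  have hpe : Poly F (fun n => y ^ n) := poly_pow hF.anti hy
  have hpe' : Poly F (fun n => y ^ n : ℕ → G)⁻¹ := hpe.inv hF.anti hF.c0
  have hg' : Poly F (fseq s y * (fun n => y ^ n : ℕ → G)⁻¹ : ℕ → G) := hpf.mul hF.anti hF.c0 hpe'
  have hv : ∀ i, i < 2 → ((fseq s y * (fun n => y ^ n : ℕ → G)⁻¹ : ℕ → G)) i = 1 := by
    intro i hi
    interval_cases i
    · simp [fseq_zero]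
    · simp [fseq_one]
  have h1 := peel_top hF hp hFp M hM (p - 2) 2 (by omega) le_rfl _ hg' hv
  -- the top term
  have htop : (D^[p] (fseq s y * (fun n => y ^ n : ℕ → G)⁻¹ : ℕ → G)) 0 = yseq s y (p - 1) := by
    rw [top_mul hF hFp hpf hpe', top_inv hF hFp hpe]
    have h2 : D^[p] (fun n => y ^ n : ℕ → G) = 1 := by
      have h21 := iterate_D_choose_gt y p 1 (by omega)
      simpa only [Nat.choose_one_right] using h21
    have h3 : D^[p] (fseq s y) = fun n => (s⁻¹) ^ n * yseq s y (p - 1) * s ^ n := by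
      have h31 := iterate_D_fseq s y (p - 1)
      rwa [show p - 1 + 1 = p from by omega] at h31
    rw [h2, h3]
    simp
  rw [htop] at h1
  have h4 : ((fseq s y * (fun n => y ^ n : ℕ → G)⁻¹ : ℕ → G)) p = (s⁻¹) ^ p * (s * y) ^ p * (y ^ p)⁻¹ := by
    simp [fseq]
  rw [h4] at h1
  simpa only [mul_assoc] using h1

/-- Corollary used for the anchor: if moreover `F 2` has exponent `p`, then
`(s y)^p = s^p * y_p * y^p`. -/
theorem hp_top_exp (hF : Filt F) {p : ℕ} (hp : p.Prime) (hFp : F (p + 1) = ⊥)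
    (hM : ∀ x ∈ F 2, x ^ p = 1) {s y : G}
    (hs : ∀ i, ∀ x ∈ F i, s⁻¹ * x * s * x⁻¹ ∈ F (i + 1)) (hy : y ∈ F 1) :
    (s * y) ^ p = s ^ p * yseq s y (p - 1) * y ^ p := by
  have h := hp_top hF hp hFp ⊥ (fun x hx => by rw [Subgroup.mem_bot]; exact hM x hx) hs hy
  rw [Subgroup.mem_bot, mul_inv_eq_one, inv_mul_eq_iff_eq_mul, inv_pow, inv_mul_eq_iff_eq_mul] at h
  rw [h, mul_assoc]

end Cfsg.Agent.Helper10.HP
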